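import Groth.Agent.KCLib.ConeQiso
import Mathlib.Algebra.Colimit.Module

/-!
# The colimit of the Koszul complexes of the powers is an iterated cone of localisation maps
-/

set_option autoImplicit false
universe u

open CategoryTheory CategoryTheory.Limits CochainComplex CochainComplex.HomComplex

namespace Groth.Agent.KCLib

variable {A : Type u} [CommRing A] (M : ModuleCat.{u} A)

/-- Iterated cones of localisation maps. -/
noncomputable def kInf : List A → KCx A
  | [] => (HomologicalComplex.single (ModuleCat.{u} A) (ComplexShape.up ℤ) 0).obj M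
  | f :: fs => coneLoc f (kInf fs)

variable (n : ℕ)

/-- Division by a power, on localised modules. -/
noncomputable def divPow (f : A) (N : ModuleCat.{u} A) :
    N ⟶ (DerCA.locFunctor (Submonoid.powers f)).obj N :=
  ModuleCat.ofHom
    { toFun := fun x => LocalizedModule.mk x (⟨f ^ n, n, rfl⟩ : Submonoid.powers f)
      map_add' := fun x y => by
        rw [LocalizedModule.mk_add_mk, ← smul_add, LocalizedModule.mk_cancel_common_left]
      map_smul' := fun a x => by simp [LocalizedModule.smul'_mk] }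

/-- Division by a power, on complexes. -/
noncomputable def divPowCx (f : A) (K : KCx A) :
    K ⟶ (DerCA.locCx (Submonoid.powers f)).obj K where
  f i := divPow n f (K.X i)
  comm' i j _ := by
    ext x
    exact lfrac_d (Submonoid.powers f) x _

theorem smul_divPowCx (f : A) (K : KCx A) :
    f ^ n • divPowCx n f K = DerCA.locCxUnit (Submonoid.powers f) K := by
  ext i x
  show f ^ n • LocalizedModule.mk x (⟨f ^ n, n, rfl⟩ : Submonoid.powers f) = LocalizedModule.mk x 1
  rw [LocalizedModule.smul'_mk]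
  exact LocalizedModule.mk_cancel (⟨f ^ n, n, rfl⟩ : Submonoid.powers f) x

/-- The comparison map from the Koszul complex of the powers. -/
noncomputable def kPhi : ∀ fs : List A, CohIII.koszulCx M (fs.map (· ^ n)) ⟶ kInf M fs
  | [] => 𝟙 _
  | f :: fs => mappingCone.map _ _ (kPhi fs) (kPhi fs ≫ divPowCx n f (kInf M fs)) (by
      rw [Linear.smul_comp, Category.id_comp, ← Linear.comp_smul, smul_divPowCx])

/-- The comparisons are compatible and exhibit a colimit in each degree. -/
theorem kPhi_colim : ∀ fs : List A,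
    (∀ (n m : ℕ) (h : n ≤ m), CohIII.koszulTrans M n m h fs ≫ kPhi M m fs = kPhi M n fs) ∧
    (∀ q (x : (kInf M fs).X q), ∃ n y, (kPhi M n fs).f q y = x) ∧
    ∀ q n (y : (CohIII.koszulCx M (fs.map (· ^ n))).X q), (kPhi M n fs).f q y = 0 →
      ∃ m, ∀ m' (h : n ≤ m'), m ≤ m' → (CohIII.koszulTrans M n m' h fs).f q y = 0 := by
  intro fs
  induction fs with
  | nil =>
    exact ⟨fun n m h => Category.id_comp _, fun q x => ⟨0, x, rfl⟩,
      fun q n y hy => ⟨n, fun m' h _ => hy⟩⟩
  | cons f fs ih =>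
    obtain ⟨hc, hs, hk⟩ := ih
    let S := Submonoid.powers f
    have hc' : ∀ (n m : ℕ) (h : n ≤ m) q y,
        (kPhi M m fs).f q ((CohIII.koszulTrans M n m h fs).f q y) = (kPhi M n fs).f q y :=
      fun n m h q y => ConcreteCategory.congr_hom (congrArg (fun ψ => ψ.f q) (hc n m h)) y
    have f1 : ∀ n q (z : (CohIII.koszulCx M ((f :: fs).map (· ^ n))).X q),
        cfst (DerCA.locCxUnit S (kInf M fs)) (rfl : q + 1 = q + 1) ((kPhi M n (f :: fs)).f q z) =
          (kPhi M n fs).f (q + 1) (cfst _ rfl z) :=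
      fun n q z => cfst_map _ _ _ _ _ rfl z
    have f2 : ∀ n q (z : (CohIII.koszulCx M ((f :: fs).map (· ^ n))).X q),
        csnd (DerCA.locCxUnit S (kInf M fs)) ((kPhi M n (f :: fs)).f q z) =
          lfrac S ((kPhi M n fs).f q (csnd _ z)) ⟨f ^ n, n, rfl⟩ :=
      fun n q z => csnd_map _ _ _ _ _ z
    have t1 : ∀ n m h q (z : (CohIII.koszulCx M ((f :: fs).map (· ^ n))).X q),
        cfst _ (rfl : q + 1 = q + 1) ((CohIII.koszulTrans M n m h (f :: fs)).f q z) =
          (CohIII.koszulTrans M n m h fs).f (q + 1) (cfst _ rfl z) :=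
      fun n m h q z => cfst_map _ _ _ _ _ rfl z
    have t2 : ∀ n m h q (z : (CohIII.koszulCx M ((f :: fs).map (· ^ n))).X q),
        csnd _ ((CohIII.koszulTrans M n m h (f :: fs)).f q z) =
          f ^ (m - n) • (CohIII.koszulTrans M n m h fs).f q (csnd _ z) :=
      fun n m h q z => csnd_map _ _ _ _ _ z
    refine ⟨fun n m h => ?_, fun q x => ?_, fun q n y hy => ?_⟩
    · ext q z
      refine cone_ext' (DerCA.locCxUnit S (kInf M fs)) (rfl : q + 1 = q + 1) ?_ ?_
      · exact (f1 m q _).trans ((congrArg _ (t1 n m h q z)).trans ((hc' n m h _ _).trans (f1 n q z).symm))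
      · refine (f2 m q _).trans (Eq.trans ?_ (f2 n q z).symm)
        refine (congrArg (fun w => lfrac S ((kPhi M m fs).f q w) _) (t2 n m h q z)).trans ?_
        rw [map_smul, hc']
        refine Eq.trans (congrArg (lfrac S _) (Subtype.ext ?_))
          (lfrac_cancel S _ ⟨f ^ n, n, rfl⟩ ⟨f ^ (m - n), m - n, rfl⟩)
        show f ^ m = f ^ n * f ^ (m - n)
        rw [← pow_add, Nat.add_sub_cancel' h]
    · obtain ⟨a, ⟨_, s, rfl⟩, hy⟩ := lfrac_surj S (csnd (DerCA.locCxUnit S (kInf M fs)) x)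
      obtain ⟨n₁, x₁, hx₁⟩ := hs (q + 1) (cfst (DerCA.locCxUnit S (kInf M fs)) rfl x)
      obtain ⟨n₂, y₂, hy₂⟩ := hs q a
      let N := n₁ + n₂ + s
      refine ⟨N, cmk _ rfl ((CohIII.koszulTrans M n₁ N (by omega) fs).f (q + 1) x₁)
        (f ^ (N - s) • (CohIII.koszulTrans M n₂ N (by omega) fs).f q y₂),
        cone_ext' (DerCA.locCxUnit S (kInf M fs)) (rfl : q + 1 = q + 1) ?_ ?_⟩
      · exact (f1 N q _).trans ((congrArg _ (cfst_cmk _ _ _ _)).trans ((hc' _ _ _ _ _).trans hx₁))
      · refine (f2 N q _).trans (Eq.trans ?_ hy)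
        refine (congrArg (fun w => lfrac S ((kPhi M N fs).f q w) _) (csnd_cmk _ _ _ _)).trans ?_
        rw [map_smul, hc', hy₂]
        refine Eq.trans (congrArg (lfrac S _) (Subtype.ext ?_))
          (lfrac_cancel S _ ⟨f ^ s, s, rfl⟩ ⟨f ^ (N - s), N - s, rfl⟩)
        show f ^ N = f ^ s * f ^ (N - s)
        rw [← pow_add, Nat.add_sub_cancel' (show s ≤ N by omega)]
    · have e1 : (kPhi M n fs).f (q + 1) (cfst _ rfl y) = 0 :=
        (f1 n q y).symm.trans ((congrArg _ hy).trans (map_zero _))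
      have e2 : lfrac S ((kPhi M n fs).f q (csnd _ y)) ⟨f ^ n, n, rfl⟩ = 0 :=
        (f2 n q y).symm.trans ((congrArg _ hy).trans (map_zero _))
      obtain ⟨⟨_, s, rfl⟩, hs'⟩ := (lfrac_eq_zero S _ _).1 e2
      obtain ⟨m₁, hm₁⟩ := hk _ _ _ e1
      obtain ⟨m₂, hm₂⟩ := hk _ _ (f ^ s • csnd _ y) (by rw [map_smul]; exact hs')
      refine ⟨m₁ + m₂ + n + s, fun m' h hm' => ?_⟩
      refine cone_ext' _ (rfl : q + 1 = q + 1) ?_ ?_
      · exact (t1 n m' h q y).trans ((hm₁ m' h (by omega)).trans (map_zero _).symm)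
      · refine (t2 n m' h q y).trans (Eq.trans ?_ (map_zero _).symm)
        have := hm₂ m' h (by omega)
        rw [map_smul] at this
        rw [show m' - n = (m' - n - s) + s by omega, pow_add, mul_smul, this, smul_zero]

/-- Koszul cohomology of the powers has as colimit the cohomology of the iterated cone. -/
theorem nonempty_koszulHLim_equiv (fs : List A) (p : ℕ) :
    Nonempty (CohIII.koszulHLim fs M p ≃ₗ[A] (kInf M fs).homology ((p : ℤ) - fs.length)) := by
  obtain ⟨hc, hs, hk⟩ := kPhi_colim M fs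
  have hc' : ∀ (n m : ℕ) (h : n ≤ m) q y,
      (kPhi M m fs).f q ((CohIII.koszulTrans M n m h fs).f q y) = (kPhi M n fs).f q y :=
    fun n m h q y => ConcreteCategory.congr_hom (congrArg (fun ψ => ψ.f q) (hc n m h)) y
  set q : ℤ := (p : ℤ) - fs.length
  let φ : ∀ n : ℕ, CohIII.koszulHPow fs M p n →ₗ[A] (kInf M fs).homology q := fun n =>
    (HomologicalComplex.homologyMap (kPhi M n fs) q).hom
  have hφ : ∀ (n m : ℕ) (h : n ≤ m) x, φ m ((HomologicalComplex.homologyMap
      (CohIII.koszulTrans M n m h fs) q).hom x) = φ n x := fun n m h x => by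
    refine (ConcreteCategory.congr_hom (HomologicalComplex.homologyMap_comp
      (CohIII.koszulTrans M n m h fs) (kPhi M m fs) q).symm x).trans ?_
    rw [hc]
  let Φ := Module.DirectLimit.lift A ℕ (fun n : ℕ => (CohIII.koszulHPow fs M p n : Type u))
    (fun n m h => (HomologicalComplex.homologyMap (CohIII.koszulTrans M n m h fs) q).hom) φ hφ
  obtain ⟨ρ, hρs, hρ0, hρc⟩ := exists_hom_class (kInf M fs) (q - 1) q (q + 1) (by omega) rfl
  have nat : ∀ (n : ℕ) (z : (CohIII.koszulCx M (fs.map (· ^ n))).X q)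
      (hz : (CohIII.koszulCx M (fs.map (· ^ n))).d q (q + 1) z = 0)
      (c : (CohIII.koszulCx M (fs.map (· ^ n))).cycles q)
      (_ : (CohIII.koszulCx M (fs.map (· ^ n))).iCycles q c = z),
      φ n ((CohIII.koszulCx M (fs.map (· ^ n))).homologyπ q c) =
        ρ ⟨(kPhi M n fs).f q z, LinearMap.mem_ker.2
          ((comm_apply (kPhi M n fs) q (q + 1) z).trans (by rw [hz, map_zero]))⟩ := by
    intro n z hz c hc₁
    obtain ⟨c', hc'₁, hc'π⟩ := hρc ⟨(kPhi M n fs).f q z, LinearMap.mem_ker.2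
      ((comm_apply (kPhi M n fs) q (q + 1) z).trans (by rw [hz, map_zero]))⟩
    rw [← hc'π]
    refine (ConcreteCategory.congr_hom (HomologicalComplex.homologyπ_naturality (kPhi M n fs) q) c).trans ?_
    refine congrArg ((kInf M fs).homologyπ q)
      ((ModuleCat.mono_iff_injective ((kInf M fs).iCycles q)).1 inferInstance ?_)
    refine (ConcreteCategory.congr_hom (HomologicalComplex.cyclesMap_i (kPhi M n fs) q) c).trans ?_
    exact (congrArg _ hc₁).trans hc'₁.symm
  refine ⟨(LinearEquiv.ofBijective Φ ⟨?_, ?_⟩ : _)⟩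
  · refine (injective_iff_map_eq_zero Φ).2 fun a ha => ?_
    obtain ⟨n, a, rfl⟩ := Module.DirectLimit.exists_of a
    rw [Module.DirectLimit.lift_of] at ha
    obtain ⟨π, hπs, hπ0, hπc⟩ :=
      exists_hom_class (CohIII.koszulCx M (fs.map (· ^ n))) (q - 1) q (q + 1) (by omega) rfl
    obtain ⟨⟨z, hz⟩, rfl⟩ := hπs a
    obtain ⟨c, hc₁, hcπ⟩ := hπc ⟨z, hz⟩
    rw [← hcπ, nat n z hz c hc₁, hρ0] at ha
    obtain ⟨w, hw⟩ := ha
    obtain ⟨n', v, rfl⟩ := hs (q - 1) w
    obtain ⟨m, hm⟩ := hk q (n + n') ((CohIII.koszulTrans M n (n + n') (by omega) fs).f q z -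
      (CohIII.koszulCx M (fs.map (· ^ (n + n')))).d (q - 1) q
        ((CohIII.koszulTrans M n' (n + n') (by omega) fs).f (q - 1) v)) (by
      rw [map_sub, hc', ← comm_apply, hc', hw, sub_self])
    let N := max m (n + n')
    have e := hm N (le_max_right _ _) (le_max_left _ _)
    rw [map_sub, sub_eq_zero, ← comm_apply] at e
    have hnN : n ≤ N := le_trans (Nat.le_add_right _ _) (le_max_right _ _)
    refine Eq.trans (Module.DirectLimit.of_f (hij := hnN)).symm ?_
    refine Eq.trans (congrArg _ ?_) (map_zero (Module.DirectLimit.of A ℕ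
      (fun n : ℕ => (CohIII.koszulHPow fs M p n : Type u)) _ N))
    obtain ⟨π', -, hπ'0, hπ'c⟩ :=
      exists_hom_class (CohIII.koszulCx M (fs.map (· ^ N))) (q - 1) q (q + 1) (by omega) rfl
    have hz' : (CohIII.koszulTrans M n N hnN fs).f q z ∈
        LinearMap.ker ((CohIII.koszulCx M (fs.map (· ^ N))).d q (q + 1)).hom :=
      LinearMap.mem_ker.2 ((comm_apply (CohIII.koszulTrans M n N hnN fs) q (q + 1) z).trans
        (by rw [show (CohIII.koszulCx M (fs.map (· ^ n))).d q (q + 1) z = 0 from hz, map_zero]))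
    obtain ⟨c', hc'₁, hc'π⟩ := hπ'c ⟨_, hz'⟩
    rw [← hcπ]
    refine (ConcreteCategory.congr_hom
      (HomologicalComplex.homologyπ_naturality (CohIII.koszulTrans M n N hnN fs) q) c).trans ?_
    have hcc : HomologicalComplex.cyclesMap (CohIII.koszulTrans M n N hnN fs) q c = c' := by
      refine (ModuleCat.mono_iff_injective ((CohIII.koszulCx M (fs.map (· ^ N))).iCycles q)).1
        inferInstance ?_
      exact (ConcreteCategory.congr_hom
        (HomologicalComplex.cyclesMap_i (CohIII.koszulTrans M n N hnN fs) q) c).trans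
          ((congrArg _ hc₁).trans hc'₁.symm)
    refine (congrArg _ hcc).trans (hc'π.trans ((hπ'0 _).2
      ⟨(CohIII.koszulTrans M (n + n') N (le_max_right _ _) fs).f (q - 1)
        ((CohIII.koszulTrans M n' (n + n') (by omega) fs).f (q - 1) v), ?_⟩))
    refine e.symm.trans ?_
    exact trans_trans _ _ _ _ _ fs q z
  · intro b
    obtain ⟨⟨z, hz⟩, rfl⟩ := hρs b
    obtain ⟨n, y, rfl⟩ := hs q z
    obtain ⟨m, hm⟩ := hk (q + 1) n ((CohIII.koszulCx M (fs.map (· ^ n))).d q (q + 1) y)
      (by rw [← comm_apply]; exact hz)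
    let N := max n m
    have e := hm N (le_max_left _ _) (le_max_right _ _)
    rw [← comm_apply] at e
    obtain ⟨π, -, -, hπc⟩ :=
      exists_hom_class (CohIII.koszulCx M (fs.map (· ^ N))) (q - 1) q (q + 1) (by omega) rfl
    obtain ⟨c, hc₁, -⟩ := hπc ⟨(CohIII.koszulTrans M n N (le_max_left _ _) fs).f q y, e⟩
    refine ⟨Module.DirectLimit.of A ℕ _ _ N ((CohIII.koszulCx M (fs.map (· ^ N))).homologyπ q c), ?_⟩
    rw [Module.DirectLimit.lift_of, nat N _ e c hc₁]
    congr 2
    exact hc' _ _ _ _ _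
where
  trans_trans (n m l : ℕ) (h : n ≤ m) (h' : m ≤ l) : ∀ (fs : List A) (q : ℤ)
      (z : (CohIII.koszulCx M (fs.map (· ^ n))).X q),
      (CohIII.koszulTrans M m l h' fs).f q ((CohIII.koszulTrans M n m h fs).f q z) =
        (CohIII.koszulTrans M n l (h.trans h') fs).f q z
  | [], _, _ => rfl
  | f :: fs, q, z => by
    refine cone_ext' _ (rfl : q + 1 = q + 1) ?_ ?_
    · refine (cfst_map _ _ _ _ _ rfl _).trans ((congrArg _ (cfst_map _ _ _ _ _ rfl z)).trans ?_)
      exact (trans_trans n m l h h' fs (q + 1) _).trans (cfst_map _ _ _ _ _ rfl z).symm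
    · refine (csnd_map _ _ _ _ _ _).trans ((congrArg _ (csnd_map _ _ _ _ _ z)).trans ?_)
      refine Eq.trans ?_ (csnd_map _ _ _ _ _ z).symm
      show f ^ (l - m) • (CohIII.koszulTrans M m l h' fs).f q
        (f ^ (m - n) • (CohIII.koszulTrans M n m h fs).f q _) = f ^ (l - n) • _
      rw [map_smul, trans_trans n m l h h' fs q, smul_smul, ← pow_add]
      congr 2
      omega

end Groth.Agent.KCLib
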