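import Groth.Prelude.Def_ega3
import Mathlib.Algebra.Category.ModuleCat.ChangeOfRings
import Mathlib.Algebra.Category.ModuleCat.Abelian
import Mathlib.Algebra.Homology.HomotopyCategory.Pretriangulated
import Mathlib.Algebra.Colimit.Module

/-!
# Koszul cohomology of powers under an isomorphism of rings
-/

set_option autoImplicit false
set_option backward.isDefEq.respectTransparency false
universe u

open CategoryTheory CategoryTheory.Limits CochainComplex

namespace Groth.Agent.KCLib

variable {A B : Type u} [CommRing A] [CommRing B] (e : A ≃+* B)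

/-- Restriction of scalars along the isomorphism. -/
noncomputable abbrev resE : ModuleCat.{u} B ⥤ ModuleCat.{u} A := ModuleCat.restrictScalars (e : A →+* B)

/-- The same functor on complexes. -/
noncomputable abbrev resEC : CochainComplex (ModuleCat.{u} B) ℤ ⥤ CochainComplex (ModuleCat.{u} A) ℤ :=
  (resE e).mapHomologicalComplex (ComplexShape.up ℤ)

theorem resEC_smul {K L : CochainComplex (ModuleCat.{u} B) ℤ} (b : B) (φ : K ⟶ L) :
    (resEC e).map (b • φ) = e.symm b • (resEC e).map φ := by
  ext q x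
  change b • (φ.f q).hom x = e (e.symm b) • (φ.f q).hom x
  rw [e.apply_symm_apply]

variable (N : ModuleCat.{u} B) {M : ModuleCat.{u} A} (θ : (resE e).obj N ≅ M)

/-- A copy of the Koszul complex of the powers indexed by `A`. -/
theorem resEC_smul_id (f : A) (n : ℕ) (K : CochainComplex (ModuleCat.{u} B) ℤ) :
    (resEC e).map ((e f) ^ n • 𝟙 K) = f ^ n • 𝟙 ((resEC e).obj K) := by
  rw [resEC_smul, map_pow, e.symm_apply_apply, CategoryTheory.Functor.map_id]

/-- Naturality of the comparison of cones. -/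
theorem mapHomologicalComplexIso_natural {K₁ L₁ K₂ L₂ : CochainComplex (ModuleCat.{u} B) ℤ}
    (φ₁ : K₁ ⟶ L₁) (φ₂ : K₂ ⟶ L₂) (a : K₁ ⟶ K₂) (b : L₁ ⟶ L₂) (comm : φ₁ ≫ b = a ≫ φ₂) :
    (resEC e).map (mappingCone.map φ₁ φ₂ a b comm) ≫ (mappingCone.mapHomologicalComplexIso φ₂ (resE e)).hom =
      (mappingCone.mapHomologicalComplexIso φ₁ (resE e)).hom ≫
        mappingCone.map ((resEC e).map φ₁) ((resEC e).map φ₂) ((resEC e).map a) ((resEC e).map b)
          (by rw [← Functor.map_comp, comm, Functor.map_comp]) := by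
  ext n : 1
  dsimp [mappingCone.mapHomologicalComplexIso]
  simp only [HomologicalComplex.Hom.isoOfComponents_hom_f]
  rw [mappingCone.mapHomologicalComplexXIso_eq φ₁ (resE e) n (n + 1) rfl,
    mappingCone.mapHomologicalComplexXIso_eq φ₂ (resE e) n (n + 1) rfl]
  simp only [mappingCone.mapHomologicalComplexXIso'_hom, mappingCone.map, Preadditive.comp_add,
    Preadditive.add_comp, Category.assoc, mappingCone.inl_v_desc_f, mappingCone.inr_f_desc_f,
    HomologicalComplex.comp_f, CochainComplex.HomComplex.Cochain.zero_cochain_comp_v, CochainComplex.HomComplex.Cochain.ofHom_v,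
    Functor.mapHomologicalComplex_map_f, ← Functor.map_comp_assoc]
  congr 1
  · congr 2
    apply mappingCone.ext_from φ₁ (n + 1) n rfl <;> simp
  · congr 2
    apply mappingCone.ext_from φ₁ (n + 1) n rfl <;> simp

/-- The comparison of Koszul complexes of powers. -/
noncomputable def koszulPowIso (n : ℕ) : ∀ fs : List A,
    (resEC e).obj (CohIII.koszulCx N ((fs.map e).map (· ^ n))) ≅
      CohIII.koszulCx M (fs.map (· ^ n))
  | [] => (HomologicalComplex.singleMapHomologicalComplex (resE e) (ComplexShape.up ℤ) 0).app N ≪≫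
      (HomologicalComplex.single (ModuleCat.{u} A) (ComplexShape.up ℤ) 0).mapIso θ
  | f :: fs =>
    mappingCone.mapHomologicalComplexIso _ (resE e) ≪≫
      { hom := mappingCone.map _ _ (koszulPowIso n fs).hom (koszulPowIso n fs).hom (by
          rw [resEC_smul_id]; simp)
        inv := mappingCone.map _ _ (koszulPowIso n fs).inv (koszulPowIso n fs).inv (by
          rw [resEC_smul_id]; simp)
        hom_inv_id := by
          rw [← mappingCone.map_comp]
          simp only [Iso.hom_inv_id]
          exact mappingCone.map_id _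
        inv_hom_id := by
          rw [← mappingCone.map_comp]
          simp only [Iso.inv_hom_id]
          exact mappingCone.map_id _ }

theorem map_congr' {C : Type*} [Category C] [Preadditive C] [HasBinaryBiproducts C]
    {K₁ L₁ K₂ L₂ : CochainComplex C ℤ} (φ₁ : K₁ ⟶ L₁) (φ₂ : K₂ ⟶ L₂) {a a' : K₁ ⟶ K₂}
    {b b' : L₁ ⟶ L₂} (ha : a = a') (hb : b = b') (comm : φ₁ ≫ b = a ≫ φ₂) :
    mappingCone.map φ₁ φ₂ a b comm = mappingCone.map φ₁ φ₂ a' b' (ha ▸ hb ▸ comm) := by
  subst ha hb
  rfl

theorem cone_step {K₁ L₁ K₂ L₂ : CochainComplex (ModuleCat.{u} B) ℤ} (φ₁ : K₁ ⟶ L₁) (φ₂ : K₂ ⟶ L₂)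
    (a : K₁ ⟶ K₂) (b : L₁ ⟶ L₂) {P₁ Q₁ P₂ Q₂ : CochainComplex (ModuleCat.{u} A) ℤ} (ψ₁ : P₁ ⟶ Q₁)
    (ψ₂ : P₂ ⟶ Q₂) (s₁ : (resEC e).obj K₁ ⟶ P₁) (t₁ : (resEC e).obj L₁ ⟶ Q₁) (s₂ : (resEC e).obj K₂ ⟶ P₂)
    (t₂ : (resEC e).obj L₂ ⟶ Q₂) (a' : P₁ ⟶ P₂) (b' : Q₁ ⟶ Q₂) (comm : φ₁ ≫ b = a ≫ φ₂)
    {h₁ : (resEC e).map φ₁ ≫ t₁ = s₁ ≫ ψ₁} {h₂ : (resEC e).map φ₂ ≫ t₂ = s₂ ≫ ψ₂}
    {comm' : ψ₁ ≫ b' = a' ≫ ψ₂}
    (ha : (resEC e).map a ≫ s₂ = s₁ ≫ a') (hb : (resEC e).map b ≫ t₂ = t₁ ≫ b') :
    (resEC e).map (mappingCone.map φ₁ φ₂ a b comm) ≫ (mappingCone.mapHomologicalComplexIso φ₂ (resE e)).hom ≫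
        mappingCone.map ((resEC e).map φ₂) ψ₂ s₂ t₂ h₂ =
      ((mappingCone.mapHomologicalComplexIso φ₁ (resE e)).hom ≫ mappingCone.map ((resEC e).map φ₁) ψ₁ s₁ t₁ h₁) ≫
        mappingCone.map ψ₁ ψ₂ a' b' comm' := by
  rw [← Category.assoc, mapHomologicalComplexIso_natural, Category.assoc, Category.assoc,
    ← mappingCone.map_comp, ← mappingCone.map_comp]
  exact congrArg _ (map_congr' _ _ ha hb _)

theorem koszulPowIso_trans (n m : ℕ) (h : n ≤ m) : ∀ fs : List A,
    (resEC e).map (CohIII.koszulTrans N n m h (fs.map e)) ≫ (koszulPowIso e N θ m fs).hom =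
      (koszulPowIso e N θ n fs).hom ≫ CohIII.koszulTrans M n m h fs
  | [] => by
    show (resEC e).map (𝟙 _) ≫ _ = _ ≫ 𝟙 _
    rw [CategoryTheory.Functor.map_id]
    exact (Category.id_comp _).trans (Category.comp_id _).symm
  | f :: fs => by
    have ih := koszulPowIso_trans n m h fs
    have ih' : (resEC e).map ((e f) ^ (m - n) • CohIII.koszulTrans N n m h (fs.map e)) ≫
        (koszulPowIso e N θ m fs).hom =
      (koszulPowIso e N θ n fs).hom ≫ (f ^ (m - n) • CohIII.koszulTrans M n m h fs) := by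
      rw [resEC_smul, map_pow, e.symm_apply_apply, Linear.smul_comp, ih, Linear.comp_smul]
    exact cone_step e _ _ _ _ _ _ _ _ _ _ _ _ _ (h₁ := by rw [resEC_smul_id]; simp)
      (h₂ := by rw [resEC_smul_id]; simp) ih ih'

theorem koszulTrans_self {C : Type u} [CommRing C] (M : ModuleCat.{u} C) (n : ℕ) : ∀ fs : List C,
    CohIII.koszulTrans M n n le_rfl fs = 𝟙 _
  | [] => rfl
  | f :: fs => by
    show mappingCone.map _ _ _ _ _ = _
    refine (map_congr' _ _ (koszulTrans_self M n fs) (b' := 𝟙 _) ?_ _).trans (mappingCone.map_id _)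
    rw [koszulTrans_self M n fs, Nat.sub_self, pow_zero, one_smul]

theorem koszulTrans_comp {C : Type u} [CommRing C] (M : ModuleCat.{u} C) (n m l : ℕ) (h : n ≤ m)
    (h' : m ≤ l) : ∀ fs : List C,
    CohIII.koszulTrans M n m h fs ≫ CohIII.koszulTrans M m l h' fs = CohIII.koszulTrans M n l (h.trans h') fs
  | [] => Category.comp_id _
  | f :: fs => by
    show mappingCone.map _ _ _ _ _ ≫ mappingCone.map _ _ _ _ _ = mappingCone.map _ _ _ _ _
    rw [← mappingCone.map_comp]
    refine map_congr' _ _ (koszulTrans_comp M n m l h h' fs) ?_ _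
    rw [Linear.smul_comp, Linear.comp_smul, smul_smul, koszulTrans_comp M n m l h h' fs, ← pow_add,
      show m - n + (l - m) = l - n by omega]

/-- The homology of the restricted complex. -/
noncomputable def resHomologyIso (K : CochainComplex (ModuleCat.{u} B) ℤ) (q : ℤ) :
    ((resEC e).obj K).homology q ≅ (resE e).obj (K.homology q) :=
  (K.sc q).mapHomologyIso (resE e)

theorem resHomologyIso_natural {K L : CochainComplex (ModuleCat.{u} B) ℤ} (φ : K ⟶ L) (q : ℤ) :
    HomologicalComplex.homologyMap ((resEC e).map φ) q ≫ (resHomologyIso e L q).hom =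
      (resHomologyIso e K q).hom ≫ (resE e).map (HomologicalComplex.homologyMap φ q) :=
  ShortComplex.mapHomologyIso_hom_naturality
    ((HomologicalComplex.shortComplexFunctor (ModuleCat.{u} B) (ComplexShape.up ℤ) q).map φ) (resE e)

include θ in
/-- Invariance in a fixed degree. -/
theorem nonempty_limit_equiv (fs : List A) (q : ℤ) :
    Nonempty (Module.DirectLimit
        (fun n : ℕ => ((CohIII.koszulCx M (fs.map (· ^ n))).homology q : Type u))
        (fun n m h => (HomologicalComplex.homologyMap (CohIII.koszulTrans M n m h fs) q).hom) ≃+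
      Module.DirectLimit
        (fun n : ℕ => ((CohIII.koszulCx N ((fs.map e).map (· ^ n))).homology q : Type u))
        (fun n m h => (HomologicalComplex.homologyMap (CohIII.koszulTrans N n m h (fs.map e)) q).hom)) := by
  let G : ℕ → Type u := fun n => ((CohIII.koszulCx N ((fs.map e).map (· ^ n))).homology q : Type u)
  let t : ∀ n m, n ≤ m → G n →ₗ[B] G m := fun n m h =>
    (HomologicalComplex.homologyMap (CohIII.koszulTrans N n m h (fs.map e)) q).hom
  let ε : ∀ n, (CohIII.koszulCx M (fs.map (· ^ n))).homology q ≅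
      (resE e).obj ((CohIII.koszulCx N ((fs.map e).map (· ^ n))).homology q) :=
    fun n => HomologicalComplex.homologyMapIso (koszulPowIso e N θ n fs).symm q ≪≫ resHomologyIso e _ q
  haveI : DirectedSystem G fun n m h => t n m h :=
    { map_self := fun n x => by
        show (HomologicalComplex.homologyMap (CohIII.koszulTrans N n n _ (fs.map e)) q).hom x = x
        rw [koszulTrans_self, HomologicalComplex.homologyMap_id]
        rfl
      map_map := fun l m n h h' x => by
        show (HomologicalComplex.homologyMap (CohIII.koszulTrans N n m h (fs.map e)) q ≫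
          HomologicalComplex.homologyMap (CohIII.koszulTrans N m l h' (fs.map e)) q).hom x = _
        rw [← HomologicalComplex.homologyMap_comp, koszulTrans_comp] }
  have hε : ∀ n m (h : n ≤ m) x,
      (ε m).hom ((HomologicalComplex.homologyMap (CohIII.koszulTrans M n m h fs) q).hom x) =
        t n m h ((ε n).hom x) := by
    intro n m h x
    refine ConcreteCategory.congr_hom (?_ :
      HomologicalComplex.homologyMap (CohIII.koszulTrans M n m h fs) q ≫ (ε m).hom =
        (ε n).hom ≫ (resE e).map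
          (HomologicalComplex.homologyMap (CohIII.koszulTrans N n m h (fs.map e)) q)) x
    have h1 : HomologicalComplex.homologyMap (CohIII.koszulTrans M n m h fs) q ≫
        HomologicalComplex.homologyMap (koszulPowIso e N θ m fs).inv q =
      HomologicalComplex.homologyMap (koszulPowIso e N θ n fs).inv q ≫
        HomologicalComplex.homologyMap ((resEC e).map (CohIII.koszulTrans N n m h (fs.map e))) q := by
      rw [← HomologicalComplex.homologyMap_comp, ← HomologicalComplex.homologyMap_comp]
      congr 1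
      rw [Iso.comp_inv_eq, Category.assoc, koszulPowIso_trans, Iso.inv_hom_id_assoc]
    simp only [ε, Iso.trans_hom, HomologicalComplex.homologyMapIso_hom, Iso.symm_hom, Category.assoc]
    rw [reassoc_of% h1, resHomologyIso_natural]
  let LB : ModuleCat.{u} B := ModuleCat.of B (Module.DirectLimit G t)
  let ψ : ∀ n, (CohIII.koszulCx M (fs.map (· ^ n))).homology q →ₗ[A] ((resE e).obj LB) := fun n =>
    ((ε n).hom ≫ (resE e).map (ModuleCat.ofHom (X := G n) (Y := Module.DirectLimit G t)
      (Module.DirectLimit.of B ℕ G t n))).hom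
  have hψ : ∀ n m (h : n ≤ m) x, ψ m ((HomologicalComplex.homologyMap
      (CohIII.koszulTrans M n m h fs) q).hom x) = ψ n x := fun n m h x => by
    show Module.DirectLimit.of B ℕ G t m ((ε m).hom _) = Module.DirectLimit.of B ℕ G t n ((ε n).hom x)
    rw [hε]
    exact Module.DirectLimit.of_f
  let G₁ : ℕ → Type u := fun n => ((CohIII.koszulCx M (fs.map (· ^ n))).homology q : Type u)
  let t₁ : ∀ n m, n ≤ m → G₁ n →ₗ[A] G₁ m := fun n m h =>
    (HomologicalComplex.homologyMap (CohIII.koszulTrans M n m h fs) q).hom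
  let Ψ := Module.DirectLimit.lift A ℕ G₁ t₁ ψ hψ
  refine ⟨AddEquiv.ofBijective (Ψ.toAddMonoidHom : _ →+ Module.DirectLimit G t) ⟨?_, ?_⟩⟩
  · refine (injective_iff_map_eq_zero _).2 fun z hz => ?_
    obtain ⟨n, x, rfl⟩ := Module.DirectLimit.exists_of z
    have hz' : Module.DirectLimit.of B ℕ G t n ((ε n).hom x) = 0 :=
      (Module.DirectLimit.lift_of (G := G₁) (f := t₁) ψ hψ x).symm.trans hz
    obtain ⟨m, h, hm⟩ := Module.DirectLimit.of.zero_exact hz'
    rw [← Module.DirectLimit.of_f (hij := h)]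
    have : (HomologicalComplex.homologyMap (CohIII.koszulTrans M n m h fs) q).hom x = 0 :=
      (ModuleCat.mono_iff_injective (ε m).hom).1 inferInstance
        (((hε n m h x).trans hm).trans (map_zero _).symm)
    rw [this, map_zero]
  · intro z
    obtain ⟨n, y, rfl⟩ := Module.DirectLimit.exists_of z
    obtain ⟨x, hx⟩ := (ModuleCat.epi_iff_surjective (ε n).hom).1 inferInstance y
    exact ⟨Module.DirectLimit.of A ℕ G₁ t₁ n x,
      (Module.DirectLimit.lift_of (G := G₁) (f := t₁) ψ hψ x).trans (congrArg (Module.DirectLimit.of B ℕ G t n) hx)⟩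

include θ in
/-- Koszul cohomology of powers in the limit is invariant under isomorphisms of rings. -/
theorem nonempty_koszulHLim_map_equiv (fs : List A) (p : ℕ) :
    Nonempty (CohIII.koszulHLim fs M p ≃+ CohIII.koszulHLim (fs.map e) N p) := by
  show Nonempty (Module.DirectLimit
        (fun n : ℕ => ((CohIII.koszulCx M (fs.map (· ^ n))).homology ((p : ℤ) - fs.length) : Type u))
        (fun n m h => (HomologicalComplex.homologyMap (CohIII.koszulTrans M n m h fs)
          ((p : ℤ) - fs.length)).hom) ≃+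
      Module.DirectLimit
        (fun n : ℕ => ((CohIII.koszulCx N ((fs.map e).map (· ^ n))).homology ((p : ℤ) - (fs.map e).length) : Type u))
        (fun n m h => (HomologicalComplex.homologyMap (CohIII.koszulTrans N n m h (fs.map e))
          ((p : ℤ) - (fs.map e).length)).hom))
  generalize hq : (p : ℤ) - fs.length = q
  generalize hq₂ : (p : ℤ) - (fs.map e).length = q₂
  obtain rfl : q₂ = q := by rw [← hq₂, ← hq, List.length_map]
  exact nonempty_limit_equiv e N θ fs q₂

end Groth.Agent.KCLib
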