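import Groth.Agent.KCLib.Colim
import Groth.Agent.QCoh.CechLoc
import Mathlib.AlgebraicGeometry.Morphisms.QuasiSeparated
import Mathlib.Algebra.Homology.SingleHomology

/-!
# The augmented Čech complex of basic opens and the iterated cone of localisations
-/

set_option autoImplicit false
set_option backward.isDefEq.respectTransparency false
universe u

open CategoryTheory CategoryTheory.Limits AlgebraicGeometry TopologicalSpace Opposite
open Groth.Agent.QCoh

namespace Groth.Agent.KCLib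

section Shift

variable {A : Type u} [CommRing A]

/-- Cohomology of a shifted complex. -/
noncomputable def homologyShiftIso (K : KCx A) (r a b : ℤ) (h : r + a = b) :
    (K⟦r⟧).homology a ≅ K.homology b :=
  ((HomologicalComplex.homologyFunctor (ModuleCat.{u} A) (ComplexShape.up ℤ) 0).shiftIso r a b h).app K

theorem zig_coneLoc_of_kernel (f : A) (r : ℤ) {K K' : KCx A} (a : K ⟶ K')
    (hs : ∀ q, Function.Surjective (a.f q))
    (hker : ∀ (q : ℤ) (N : ℕ) (x : K.X q), a.f q x = 0 →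
      (f ^ N • x = 0 → x = 0) ∧ ∃ z, a.f q z = 0 ∧ f ^ N • z = x) :
    Zig (coneLoc f (K⟦r⟧)) (coneLoc f (K'⟦r⟧)) := by
  let S := Submonoid.powers f
  have hker' : ∀ (n : ℤ) (N : ℕ) (x : (K⟦r⟧).X n), (a⟦r⟧').f n x = 0 →
      (f ^ N • x = 0 → x = 0) ∧ ∃ z, (a⟦r⟧').f n z = 0 ∧ f ^ N • z = x :=
    fun n N x hx => hker (n + r) N x hx
  have := quasiIso_coneMap_of_surjective _ _ (a⟦r⟧') ((DerCA.locCx S).map (a⟦r⟧'))
    (locCxUnit_naturality S (a⟦r⟧')) (fun n => hs (n + r))
    (fun n y => by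
      obtain ⟨x, s, rfl⟩ := lfrac_surj S y
      obtain ⟨x', hx'⟩ := hs (n + r) x
      exact ⟨lfrac S x' s, (lfrac_map S _ x' s).trans (congrArg (fun u => lfrac S u s) hx')⟩)
    (fun n x hx hx0 => by
      obtain ⟨⟨_, N, rfl⟩, hN⟩ := (lfrac_eq_zero S x 1).1 hx0
      exact (hker' n N x hx).1 hN)
    (fun n y hy => by
      obtain ⟨x, ⟨_, s, rfl⟩, rfl⟩ := lfrac_surj S y
      rw [lfrac_map, lfrac_eq_zero] at hy
      obtain ⟨⟨_, t, rfl⟩, ht⟩ := hy
      obtain ⟨z, hz, hz'⟩ := (hker' n (s + t) (f ^ t • x) (by rw [map_smul]; exact ht)).2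
      refine ⟨z, hz, ?_⟩
      show lfrac S z 1 = _
      rw [← lfrac_cancel S z 1 ⟨f ^ (s + t), s + t, rfl⟩,
        ← lfrac_cancel S x ⟨f ^ s, s, rfl⟩ ⟨f ^ t, t, rfl⟩]
      show lfrac S (f ^ (s + t) • z) _ = _
      rw [hz']
      exact congrArg (lfrac S _) (Subtype.ext (by simp [pow_add])))
  exact Zig.of (CochainComplex.mappingCone.map _ _ (a⟦r⟧') _ (locCxUnit_naturality S (a⟦r⟧')))

end Shift

variable {X : Scheme.{u}} (F : X.Modules)

/-- Sections over an open as a module over the global functions. -/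
@[reducible] noncomputable def secMod (V : X.Opens) : Module Γ(X, ⊤) Γ(F, V) :=
  secModule (idTop X) F V

attribute [local instance] secMod

/-- Restriction of a global function. -/
noncomputable abbrev gres (V : X.Opens) (a : Γ(X, ⊤)) : Γ(X, V) :=
  X.presheaf.map (homOfLE (le_top : V ≤ ⊤)).op a

theorem res_gsmul {V W : X.Opens} (i : W ⟶ V) (a : Γ(X, ⊤)) (x : Γ(F, V)) :
    F.presheaf.map i.op (a • x : Γ(F, V)) = a • (F.presheaf.map i.op x : Γ(F, W)) := by
  rw [secModule_id_smul, secModule_id_smul]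
  refine (map_smul' (M := F) i _ x).trans ?_
  rw [ringMap_map]
  rfl

/-- The basic opens of a list of functions. -/
abbrev cv (fs : List Γ(X, ⊤)) (i : ULift.{u} (Fin fs.length)) : X.Opens :=
  X.basicOpen (fs.get i.down)

variable (fs : List Γ(X, ⊤))

/-- Natural cochains on tuples of length `n`, as a module. -/
def coch (n : ℕ) : Submodule Γ(X, ⊤)
    (∀ (σ : Fin n → ULift.{u} (Fin fs.length)) (W : {W : X.Opens // Ab.Le (cv fs) σ W}), Γ(F, W.1)) where
  carrier := {c | Ab.IsNatural (P := F.presheaf) (U := cv fs) c}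
  add_mem' {a b} ha hb := fun σ W W' h h' i => by
    show F.presheaf.map i.op (a σ ⟨W, h⟩ + b σ ⟨W, h⟩) = a σ ⟨W', h'⟩ + b σ ⟨W', h'⟩
    rw [map_add, ha σ W W' h h' i, hb σ W W' h h' i]
  zero_mem' := fun σ W W' h h' i => map_zero _
  smul_mem' a c hc := fun σ W W' h h' i => by
    show F.presheaf.map i.op (a • c σ ⟨W, h⟩) = a • c σ ⟨W', h'⟩
    rw [res_gsmul, hc σ W W' h h' i]

/-- The differential. -/
noncomputable def dLin (n : ℕ) : coch F fs n →ₗ[Γ(X, ⊤)] coch F fs (n + 1) where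
  toFun c := ⟨Ab.d c.1, Ab.d_natural c.2⟩
  map_add' a b := Subtype.ext (Ab.d_add F.presheaf (cv fs) a.1 b.1)
  map_smul' r a := Subtype.ext <| funext₂ fun σ W => by
    show Ab.d (r • a).1 σ W = r • Ab.d a.1 σ W
    simp only [Ab.d, Finset.smul_sum]
    exact Finset.sum_congr rfl fun k _ => smul_comm _ _ _

theorem dLin_dLin (n : ℕ) (c : coch F fs n) : dLin F fs (n + 1) (dLin F fs n c) = 0 :=
  Subtype.ext (Ab.d_d c.1)

/-- Terms of the augmented complex. -/
noncomputable def augX : ℤ → ModuleCat.{u} Γ(X, ⊤)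
  | Int.ofNat n => ModuleCat.of _ (coch F fs n)
  | Int.negSucc _ => ModuleCat.of _ PUnit

/-- Differentials of the augmented complex. -/
noncomputable def augD : ∀ q : ℤ, augX F fs q ⟶ augX F fs (q + 1)
  | Int.ofNat n => ModuleCat.ofHom (dLin F fs n)
  | Int.negSucc _ => 0

theorem augD_comp : ∀ q : ℤ, augD F fs q ≫ augD F fs (q + 1) = 0
  | Int.ofNat n => ModuleCat.hom_ext (LinearMap.ext fun c => dLin_dLin F fs n c)
  | Int.negSucc _ => by simp [augD]

/-- The augmented Čech complex, global sections in degree `0`. -/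
noncomputable def aug : KCx Γ(X, ⊤) := CochainComplex.of (augX F fs) (augD F fs) (augD_comp F fs)

theorem aug_d_apply (n : ℕ) (c : coch F fs n) :
    (aug F fs).d (n : ℤ) ((n : ℤ) + 1) c = dLin F fs n c :=
  ConcreteCategory.congr_hom (CochainComplex.of_d (augX F fs) (augD F fs) (n : ℤ)) c

theorem isZero_augX_negSucc (n : ℕ) : IsZero ((aug F fs).X (Int.negSucc n)) :=
  @ModuleCat.isZero_of_subsingleton _ _ _ (inferInstanceAs (Subsingleton PUnit.{u + 1}))

theorem coch_congr {n : ℕ} (c : coch F fs n) {σ σ' : Fin n → ULift.{u} (Fin fs.length)} (h : σ = σ')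
    {W : X.Opens} (hW : Ab.Le (cv fs) σ W) (hW' : Ab.Le (cv fs) σ' W) :
    c.1 σ ⟨W, hW⟩ = c.1 σ' ⟨W, hW'⟩ := by
  subst h; rfl

variable {fs} (f : Γ(X, ⊤))

/-- The successor of an index. -/
abbrev bump (i : ULift.{u} (Fin fs.length)) : ULift.{u} (Fin (f :: fs).length) := ⟨i.down.succ⟩

variable (fs)

/-- Forgetting the first function. -/
noncomputable def rLin (n : ℕ) : coch F (f :: fs) n →ₗ[Γ(X, ⊤)] coch F fs n where
  toFun c := ⟨fun σ W => c.1 (fun a => bump f (σ a)) ⟨W.1, W.2⟩,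
    fun σ W W' h h' i => c.2 (fun a => bump f (σ a)) W W' h h' i⟩
  map_add' _ _ := rfl
  map_smul' _ _ := rfl

/-- Forgetting the first function, termwise. -/
noncomputable def rX : ∀ q : ℤ, augX F (f :: fs) q ⟶ augX F fs q
  | Int.ofNat n => ModuleCat.ofHom (rLin F fs f n)
  | Int.negSucc _ => 0

/-- Forgetting the first function. -/
noncomputable def rAug : aug F (f :: fs) ⟶ aug F fs where
  f := rX F fs f
  comm' i j (h : i + 1 = j) := by
    subst h
    simp only [aug, CochainComplex.of_d]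
    rcases i with n | n
    · rfl
    · exact (isZero_augX_negSucc F (f :: fs) n).eq_of_src _ _

theorem rLin_surjective (n : ℕ) : Function.Surjective (rLin F fs f n) := by
  classical
  intro c
  have down : ∀ {σ : Fin n → ULift.{u} (Fin (f :: fs).length)} (h : ∀ a, (σ a).down ≠ 0) {W : X.Opens},
      Ab.Le (cv (f :: fs)) σ W → Ab.Le (cv fs) (fun a => ⟨(σ a).down.pred (h a)⟩) W := by
    intro σ h W hW a
    have := hW a
    rwa [cv, ← Fin.succ_pred (σ a).down (h a)] at this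
  let e : ∀ (σ : Fin n → ULift.{u} (Fin (f :: fs).length))
      (W : {W : X.Opens // Ab.Le (cv (f :: fs)) σ W}), Γ(F, W.1) := fun σ W =>
    if h : ∀ a, (σ a).down ≠ 0 then c.1 (fun a => ⟨(σ a).down.pred (h a)⟩) ⟨W.1, down h W.2⟩ else 0
  refine ⟨⟨e, fun σ W W' hW hW' i => ?_⟩, Subtype.ext <| funext₂ fun σ W => ?_⟩
  · show F.presheaf.map i.op (e σ ⟨W, hW⟩) = e σ ⟨W', hW'⟩
    simp only [e]
    split
    · exact c.2 _ _ _ _ _ i
    · exact map_zero _
  · show e (fun a => bump f (σ a)) ⟨W.1, W.2⟩ = c.1 σ W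
    have h : ∀ a, (bump f (σ a)).down ≠ 0 := fun a => Fin.succ_ne_zero _
    simp only [e]
    rw [dif_pos h]
    rfl

theorem rX_surjective : ∀ q : ℤ, Function.Surjective ((rAug F fs f).f q)
  | Int.ofNat n => rLin_surjective F fs f n
  | Int.negSucc _ => fun x => ⟨0, Subsingleton.elim (α := PUnit.{u + 1}) _ _⟩

theorem ker_rLin_dichotomy {n : ℕ} (x : coch F (f :: fs) n) (hx : rLin F fs f n x = 0)
    (σ : Fin n → ULift.{u} (Fin (f :: fs).length)) (W : {W : X.Opens // Ab.Le (cv (f :: fs)) σ W})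
    (hσ : ¬ ∃ a, (σ a).down = 0) : x.1 σ W = 0 := by
  push Not at hσ
  obtain ⟨τ, rfl⟩ : ∃ τ : Fin n → ULift.{u} (Fin fs.length), σ = fun a => bump f (τ a) :=
    ⟨fun a => ⟨(σ a).down.pred (hσ a)⟩, funext fun a => ULift.ext _ _ (by simp [bump])⟩
  exact congrFun (congrFun (congrArg Subtype.val hx) τ) ⟨W.1, W.2⟩

theorem isUnit_gres {n : ℕ} {σ : Fin n → ULift.{u} (Fin (f :: fs).length)} {W : X.Opens}
    (hW : Ab.Le (cv (f :: fs)) σ W) (hσ : ∃ a, (σ a).down = 0) (N : ℕ) :
    IsUnit (gres W (f ^ N)) := by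
  obtain ⟨a, ha⟩ := hσ
  have hle : W ≤ X.basicOpen f := by
    have := hW a
    rwa [cv, ha] at this
  have h : IsUnit (X.presheaf.map (homOfLE (le_top : X.basicOpen f ≤ ⊤)).op f) :=
    RingedSpace.isUnit_res_basicOpen X.toRingedSpace f
  have h2 := h.map (X.presheaf.map (homOfLE hle).op).hom
  rw [show (X.presheaf.map (homOfLE hle).op).hom (X.presheaf.map (homOfLE (le_top : X.basicOpen f ≤ ⊤)).op f)
    = gres W f from ringMap_map _ _ _] at h2
  rw [gres, map_pow]
  exact h2.pow N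

theorem ker_rLin_smul {n : ℕ} (N : ℕ) (x : coch F (f :: fs) n) (hx : rLin F fs f n x = 0) :
    (f ^ N • x = 0 → x = 0) ∧ ∃ z, rLin F fs f n z = 0 ∧ f ^ N • z = x := by
  classical
  refine ⟨fun h0 => Subtype.ext <| funext₂ fun σ W => ?_, ?_⟩
  · by_cases hσ : ∃ a, (σ a).down = 0
    · have := congrFun (congrFun (congrArg Subtype.val h0) σ) W
      exact (isUnit_gres fs f W.2 hσ N).smul_eq_zero.1 this
    · exact ker_rLin_dichotomy F fs f x hx σ W hσ
  · let e : ∀ (σ : Fin n → ULift.{u} (Fin (f :: fs).length))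
        (W : {W : X.Opens // Ab.Le (cv (f :: fs)) σ W}), Γ(F, W.1) := fun σ W =>
      if hσ : ∃ a, (σ a).down = 0 then
        ((isUnit_gres fs f W.2 hσ N).unit⁻¹.val : Γ(X, W.1)) • x.1 σ W else 0
    have he : ∀ σ W, gres W.1 (f ^ N) • e σ W = x.1 σ W := by
      intro σ W
      simp only [e]
      split
      · rw [← mul_smul, IsUnit.mul_val_inv, one_smul]
      · rw [smul_zero, ker_rLin_dichotomy F fs f x hx σ W ‹_›]
    refine ⟨⟨e, fun σ W W' hW hW' i => ?_⟩, Subtype.ext <| funext₂ fun σ W => ?_,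
      Subtype.ext <| funext₂ fun σ W => he σ W⟩
    · show F.presheaf.map i.op (e σ ⟨W, hW⟩) = e σ ⟨W', hW'⟩
      by_cases hσ : ∃ a, (σ a).down = 0
      · refine (isUnit_gres fs f hW' hσ N).smul_left_cancel.1 ?_
        rw [he σ ⟨W', hW'⟩, ← x.2 σ W W' hW hW' i, ← he σ ⟨W, hW⟩]
        refine (congrArg (fun r => r • F.presheaf.map i.op (e σ ⟨W, hW⟩)) ?_).trans (map_smul' (M := F) i _ _).symm
        exact (ringMap_map _ _ _).symm
      · simp only [e, dif_neg hσ, map_zero]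
    · show e (fun a => bump f (σ a)) ⟨W.1, W.2⟩ = 0
      exact dif_neg (by rintro ⟨a, ha⟩; exact Fin.succ_ne_zero _ ha)

theorem ker_rAug_smul : ∀ (q : ℤ) (N : ℕ) (x : (aug F (f :: fs)).X q), (rAug F fs f).f q x = 0 →
    (f ^ N • x = 0 → x = 0) ∧ ∃ z, (rAug F fs f).f q z = 0 ∧ f ^ N • z = x
  | Int.ofNat _, N, x, hx => ker_rLin_smul F fs f N x hx
  | Int.negSucc _, _, x, hx => ⟨fun _ => Subsingleton.elim (α := PUnit.{u + 1}) _ _,
      x, hx, Subsingleton.elim (α := PUnit.{u + 1}) _ _⟩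

theorem iInf_cv (g : List Γ(X, ⊤)) : ∀ {n : ℕ} (σ : Fin n → ULift.{u} (Fin g.length)),
    (⨅ a, cv g (σ a)) = X.basicOpen (∏ a, g.get (σ a).down) := by
  intro n
  induction n with
  | zero => intro σ; simp [iInf_of_empty, Scheme.basicOpen_of_isUnit]
  | succ n ih =>
    intro σ
    rw [Fin.prod_univ_succ, Scheme.basicOpen_mul, ← ih fun a => σ a.succ]
    refine le_antisymm (le_inf (iInf_le _ 0) (le_iInf fun a => iInf_le _ a.succ)) (le_iInf fun a => ?_)
    exact Fin.cases inf_le_left (fun b => inf_le_right.trans (iInf_le _ b)) a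

variable [CompactSpace X] [X.IsSeparated] [Coh.IsQCoh F]

theorem isCompact_inter (g : List Γ(X, ⊤)) {n : ℕ} (σ : Fin n → ULift.{u} (Fin g.length)) :
    IsCompact ((⨅ a, cv g (σ a) : X.Opens) : Set X) ∧
      IsQuasiSeparated ((⨅ a, cv g (σ a) : X.Opens) : Set X) := by
  rw [iInf_cv]
  exact ⟨AlgebraicGeometry.isCompact_basicOpen X (by simpa using isCompact_univ) _,
    IsQuasiSeparated.of_quasiSeparatedSpace _⟩

variable (g : List Γ(X, ⊤))

/-- The intersection of the basic opens of a tuple. -/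
abbrev Bint {m : ℕ} (σ : Fin m → ULift.{u} (Fin g.length)) : X.Opens := ⨅ a, cv g (σ a)

theorem le_Bint {m : ℕ} (σ : Fin m → ULift.{u} (Fin g.length)) : Ab.Le (cv g) σ (Bint g σ) :=
  fun a => iInf_le _ a

/-- Cochains vanishing on the traces of a basic open are killed by a power. -/
theorem exists_pow_smul_coch_eq_zero (p : Γ(X, ⊤)) {m : ℕ} (e : coch F g m)
    (he : ∀ τ, F.presheaf.map (homOfLE (X.basicOpen_le (gres (Bint g τ) p))).op
      (e.1 τ ⟨Bint g τ, le_Bint g τ⟩) = 0) : ∃ K : ℕ, p ^ K • e = 0 := by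
  classical
  have hF : Coh.IsQCoh F := inferInstance
  choose k hk using fun τ =>
    exists_pow_smul_eq_zero_of_isCompact hF (isCompact_inter g τ).1 (gres (Bint g τ) p) _ (he τ)
  refine ⟨∑ τ, k τ, Subtype.ext <| funext₂ fun τ W => ?_⟩
  obtain ⟨r, hr⟩ := Nat.exists_eq_add_of_le
    (Finset.single_le_sum (f := k) (fun _ _ => Nat.zero_le _) (Finset.mem_univ τ))
  show p ^ (∑ τ, k τ) • e.1 τ W = 0
  rw [hr, add_comm, pow_add, mul_smul, ← e.2 τ (Bint g τ) W.1 (le_Bint g τ) W.2 (homOfLE (le_iInf W.2)),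
    ← res_gsmul, show (p ^ k τ • e.1 τ ⟨Bint g τ, le_Bint g τ⟩ : Γ(F, Bint g τ)) = 0 by
      rw [secModule_id_smul, map_pow]; exact hk τ, map_zero, smul_zero]

theorem exists_pow_smul_of_cocycle_zero (i : Fin g.length) (z : coch F g 0) (hz' : dLin F g 0 z = 0) :
    ∃ K : ℕ, g.get i ^ K • z = 0 := by
  let j : ULift.{u} (Fin g.length) := ⟨i⟩
  refine exists_pow_smul_coch_eq_zero F g _ z fun τ => ?_
  let W := X.basicOpen (gres (Bint g τ) (g.get i))
  have hWj : W ≤ cv g j := (basicOpen_res_inf _ _).le.trans inf_le_right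
  have e := congrFun (congrFun (congrArg Subtype.val hz') fun _ => j) ⟨W, fun _ => hWj⟩
  have e' : (z.1 (fun k => k.elim0) ⟨W, fun k => k.elim0⟩ : Γ(F, W)) = 0 := by
    refine Eq.trans ?_ e
    show _ = ∑ k : Fin 1, _
    rw [Fin.sum_univ_one]
    show _ = (-1 : ℤ) ^ 0 • _
    rw [pow_zero, one_smul]
    exact coch_congr F g z (funext fun k => k.elim0) _ _
  rw [z.2 τ (Bint g τ) W (le_Bint g τ) (fun k => k.elim0) _]
  obtain rfl : τ = fun k => k.elim0 := funext fun k => k.elim0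
  exact e'

theorem exists_pow_smul_of_cocycle_succ (i : Fin g.length) (m : ℕ) (z : coch F g (m + 1))
    (hz' : dLin F g (m + 1) z = 0) :
    ∃ (K N : ℕ) (h : coch F g m), g.get i ^ K • dLin F g m h = g.get i ^ (K + N) • z := by
  classical
  have hF : Coh.IsQCoh F := inferInstance
  set p := g.get i with hp
  let j : ULift.{u} (Fin g.length) := ⟨i⟩
  let Bj : ∀ {l : ℕ}, (Fin l → ULift.{u} (Fin g.length)) → X.Opens := fun σ =>
    X.basicOpen (gres (Bint g σ) p)
  have hBj : ∀ {l : ℕ} (σ : Fin l → ULift.{u} (Fin g.length)), Bj σ = Bint g σ ⊓ cv g j := fun σ =>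
    basicOpen_res_inf _ _
  have hle : ∀ τ : Fin m → ULift.{u} (Fin g.length), Ab.Le (cv g) (Fin.cons j τ) (Bj τ) := fun τ =>
    Fin.cases ((hBj τ).le.trans inf_le_right) fun k => (X.basicOpen_le _).trans (iInf_le _ k)
  choose k t ht using fun τ : Fin m → ULift.{u} (Fin g.length) =>
    exists_pow_smul_eq_map_of_isQuasiSeparated hF (isCompact_inter g τ).1 (isCompact_inter g τ).2
      (gres (Bint g τ) p) (z.1 (Fin.cons j τ) ⟨Bj τ, hle τ⟩)
  let N := ∑ τ, k τ
  have ht' : ∀ τ, F.presheaf.map (homOfLE (X.basicOpen_le (gres (Bint g τ) p))).op (p ^ (N - k τ) • t τ) =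
      p ^ N • (z.1 (Fin.cons j τ) ⟨Bj τ, hle τ⟩ : Γ(F, Bj τ)) := fun τ => by
    rw [res_gsmul, ht, ← map_pow,
      show X.presheaf.map (homOfLE (X.basicOpen_le (gres (Bint g τ) p))).op ((gres (Bint g τ) p) ^ k τ) =
        gres (Bj τ) (p ^ k τ) by rw [← map_pow]; exact ringMap_map _ _ _,
      ← secModule_id_smul, ← mul_smul, ← pow_add, Nat.sub_add_cancel
      (Finset.single_le_sum (f := k) (fun _ _ => Nat.zero_le _) (Finset.mem_univ τ))]
  let h : coch F g m := ⟨fun τ W => F.presheaf.map (homOfLE (le_iInf W.2 : W.1 ≤ Bint g τ)).op (p ^ (N - k τ) • t τ),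
    fun τ W W' hW hW' i => map_map _ _ _⟩
  obtain ⟨K, hK⟩ := exists_pow_smul_coch_eq_zero F g p (p ^ N • z - dLin F g m h) fun σ => by
    let W := Bj σ
    have hWi : W ≤ cv g j := (hBj σ).le.trans inf_le_right
    have hWσ : Ab.Le (cv g) σ W := fun k => (X.basicOpen_le _).trans (iInf_le _ k)
    have e := congrFun (congrFun (congrArg Subtype.val hz') (Fin.cons j σ)) ⟨W, Fin.cases hWi hWσ⟩
    have e' : (z.1 σ ⟨W, hWσ⟩ : Γ(F, W)) = _ :=
      sub_eq_zero.1 ((Ab.d_cons (P := F.presheaf) z.1 j σ W hWi hWσ).symm.trans e)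
    rw [(p ^ N • z - dLin F g m h).2 σ (Bint g σ) W (le_Bint g σ) hWσ _]
    show p ^ N • (z.1 σ ⟨W, hWσ⟩ : Γ(F, W)) - ∑ k : Fin (m + 1), (-1 : ℤ) ^ (k : ℕ) • _ = 0
    rw [e', Finset.smul_sum, sub_eq_zero]
    refine Finset.sum_congr rfl fun l _ => ?_
    rw [smul_comm]
    congr 1
    have hWl : W ≤ Bj (fun b => σ (l.succAbove b)) := by
      rw [hBj]
      exact le_inf (le_iInf fun b => hWσ _) hWi
    refine Eq.trans ?_ (Ab.map_map'' F.presheaf (homOfLE (X.basicOpen_le _)) (homOfLE hWl) _ _)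
    rw [ht' fun b => σ (l.succAbove b), res_gsmul]
    congr 1
    exact (z.2 _ _ W _ _ _).symm
  refine ⟨K, N, h, ?_⟩
  rw [smul_sub, sub_eq_zero, ← mul_smul, ← pow_add] at hK
  exact hK.symm

/-- The cohomology of the augmented complex is torsion for each of the functions. -/
theorem sTors_aug (i : Fin g.length) :
    STors (Submonoid.powers (g.get i)) (aug F g) := by
  intro a b c hab hbc z hz
  subst hbc
  rcases b with n | n
  swap
  · exact ⟨1, 0, Subsingleton.elim (α := PUnit.{u + 1}) _ _⟩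
  have hz' : dLin F g n z = 0 := (aug_d_apply F g n z).symm.trans hz
  rcases n with - | m
  · obtain ⟨K, hK⟩ := exists_pow_smul_of_cocycle_zero F g i z hz'
    refine ⟨⟨_, K, rfl⟩, 0, ?_⟩
    rw [map_zero]
    exact hK.symm
  obtain rfl : a = (m : ℤ) := by simp at hab; omega
  obtain ⟨K, N, h, hK⟩ := exists_pow_smul_of_cocycle_succ F g i m z hz'
  refine ⟨⟨_, K + N, rfl⟩, g.get i ^ K • h, ?_⟩
  refine (map_smul _ _ _).trans ?_
  exact (congrArg (fun u => g.get i ^ K • u) (aug_d_apply F g m h)).trans hK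

/-- The module of global sections. -/
noncomputable abbrev gammaMod : ModuleCat.{u} Γ(X, ⊤) := ModuleCat.of Γ(X, ⊤) (F.val.obj (op ⊤))

theorem nonempty_aug_nil_iso :
    Nonempty (aug F [] ≅ (HomologicalComplex.single (ModuleCat.{u} Γ(X, ⊤)) (ComplexShape.up ℤ) 0).obj
      (gammaMod F)) := by
  let e₀ : coch F ([] : List Γ(X, ⊤)) 0 →ₗ[Γ(X, ⊤)] gammaMod F :=
    { toFun := fun c => c.1 (fun k => k.elim0) ⟨⊤, fun k => k.elim0⟩
      map_add' := fun _ _ => rfl
      map_smul' := fun a c => by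
        refine (secModule_id_smul (M := F) ⊤ a (c.1 (fun k => k.elim0) ⟨⊤, fun k => k.elim0⟩)).trans ?_
        rw [show (homOfLE (le_top : (⊤ : X.Opens) ≤ ⊤)) = 𝟙 _ from rfl, op_id, X.presheaf.map_id]
        rfl }
  have hbij : Function.Bijective e₀ := by
    refine ⟨fun c c' hcc => Subtype.ext <| funext₂ fun σ W => ?_, fun s => ?_⟩
    · obtain rfl : σ = fun k => k.elim0 := funext fun k => k.elim0
      rw [← c.2 _ ⊤ W.1 (fun k => k.elim0) W.2 (homOfLE le_top),
        ← c'.2 _ ⊤ W.1 (fun k => k.elim0) W.2 (homOfLE le_top)]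
      exact congrArg _ hcc
    · exact ⟨⟨fun σ W => F.presheaf.map (homOfLE le_top).op s, fun σ W W' hW hW' i => map_map _ _ _⟩,
        by exact Ab.map_self F.presheaf _ s⟩
  let φ := HomologicalComplex.mkHomToSingle (K := aug F ([] : List Γ(X, ⊤))) (j := (0 : ℤ))
    (ModuleCat.ofHom e₀ : (aug F []).X 0 ⟶ gammaMod F) (fun i (hi : i + 1 = 0) => by
      obtain rfl : i = Int.negSucc 0 := by omega
      exact (isZero_augX_negSucc F [] 0).eq_of_src _ _)
  have hφ : ∀ q, IsIso (φ.f q) := by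
    intro q
    by_cases hq : q = 0
    · subst hq
      rw [HomologicalComplex.mkHomToSingle_f]
      have : IsIso (ModuleCat.ofHom e₀) := (ConcreteCategory.isIso_iff_bijective _).2 hbij
      exact IsIso.comp_isIso
    · have h1 : IsZero ((aug F ([] : List Γ(X, ⊤))).X q) := by
        rcases q with n | n
        · rcases n with - | n
          · exact absurd rfl hq
          · exact @ModuleCat.isZero_of_subsingleton _ _ (augX F [] (Int.ofNat (n + 1)))
              ⟨fun c c' => Subtype.ext <| funext fun σ => (σ 0).down.elim0⟩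
        · exact isZero_augX_negSucc F [] n
      exact h1.isIso (HomologicalComplex.isZero_single_obj_X _ _ _ _ hq) _
  exact ⟨@asIso _ _ _ _ φ (HomologicalComplex.Hom.isIso_of_components φ)⟩

/-- The augmented complex, shifted, is the iterated cone of localisations of global sections. -/
theorem zig_aug : ∀ g : List Γ(X, ⊤), Zig ((aug F g)⟦(g.length : ℤ)⟧) (kInf (gammaMod F) g) := by
  intro g
  induction g with
  | nil =>
    obtain ⟨e⟩ := nonempty_aug_nil_iso F
    exact Zig.of_iso (((shiftFunctorZero (KCx Γ(X, ⊤)) ℤ).app _) ≪≫ e)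
  | cons f fs ih =>
    let r : ℤ := fs.length
    let S := Submonoid.powers f
    have step : Zig (coneLoc f ((aug F (f :: fs))⟦r⟧)) (coneLoc f ((aug F fs)⟦r⟧)) :=
      zig_coneLoc_of_kernel f r (rAug F fs f) (rX_surjective F fs f) (ker_rAug_smul F fs f)
    have htors : STors S ((aug F (f :: fs))⟦r⟧) := sTors_shift S (sTors_aug F (f :: fs) ⟨0, by simp⟩) r
    refine Zig.trans' (Zig.of_iso ((shiftFunctorAdd' (KCx Γ(X, ⊤)) r 1 ((f :: fs).length : ℤ)
      (by simp [r])).app _)) ?_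
    exact (zig_coneLoc_shift f _ htors).symm'.trans' (step.trans' (ih.coneLoc f))

/-- Koszul cohomology in the limit is the cohomology of the augmented Čech complex. -/
theorem nonempty_koszulHLim_equiv_aug (p : ℕ) :
    Nonempty (CohIII.koszulHLim g (gammaMod F) p ≃ₗ[Γ(X, ⊤)] (aug F g).homology (p : ℤ)) := by
  obtain ⟨e⟩ := nonempty_koszulHLim_equiv (gammaMod F) g p
  obtain ⟨e'⟩ := (zig_aug F g).symm'.homology ((p : ℤ) - g.length)
  exact ⟨e.trans (e' ≪≫ homologyShiftIso (aug F g) (g.length : ℤ) ((p : ℤ) - g.length) (p : ℤ)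
    (by omega)).toLinearEquiv⟩

end Groth.Agent.KCLib
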