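import Groth.Agent.KCLib.CechAug
import Groth.Agent.QCoh.CechComparison
import Groth.Prelude.Def_CohB1

/-!
# Cohomology of the augmented Čech complex
-/

set_option autoImplicit false
set_option backward.isDefEq.respectTransparency false
universe u

open CategoryTheory CategoryTheory.Limits AlgebraicGeometry TopologicalSpace Opposite
open Groth.Agent.QCoh

namespace Groth.Agent.KCLib

attribute [local instance] secMod

variable {X : Scheme.{u}} (F : X.Modules) (g : List Γ(X, ⊤))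

theorem aug_d_nat (n : ℕ) (c : coch F g n) :
    (aug F g).d (n : ℤ) ((n + 1 : ℕ) : ℤ) c = dLin F g n c :=
  aug_d_apply F g n c

/-- In degrees at least two the augmented complex is the Čech complex. -/
theorem nonempty_aug_equiv_natCx (k : ℕ) :
    Nonempty ((aug F g).homology ((k + 2 : ℕ) : ℤ) ≃+ (Ab.natCx F.presheaf (cv g)).homology (k + 1)) := by
  let S := (aug F g).sc' ((k + 1 : ℕ) : ℤ) ((k + 2 : ℕ) : ℤ) ((k + 3 : ℕ) : ℤ)
  let T := (Ab.natCx F.presheaf (cv g)).sc' k (k + 1) (k + 2)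
  let G := forget₂ (ModuleCat.{u} Γ(X, ⊤)) AddCommGrpCat.{u}
  let e : ∀ n : ℕ, G.obj ((aug F g).X ((n + 1 : ℕ) : ℤ)) ≅ (Ab.natCx F.presheaf (cv g)).X n := fun n =>
    AddEquiv.toAddCommGrpIso (X := G.obj ((aug F g).X ((n + 1 : ℕ) : ℤ)))
      (Y := (Ab.natCx F.presheaf (cv g)).X n)
      { toFun := fun c => ⟨c.1, c.2⟩
        invFun := fun c => ⟨c.1, c.2⟩
        left_inv := fun _ => rfl
        right_inv := fun _ => rfl
        map_add' := fun _ _ => rfl }
  have comm : ∀ n : ℕ, (e n).hom ≫ (Ab.natCx F.presheaf (cv g)).d n (n + 1) =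
      G.map ((aug F g).d ((n + 1 : ℕ) : ℤ) ((n + 1 + 1 : ℕ) : ℤ)) ≫ (e (n + 1)).hom := by
    intro n
    rw [Ab.natCx_d]
    refine AddCommGrpCat.ext fun c => Subtype.ext ?_
    exact (congrArg Subtype.val (aug_d_nat F g (n + 1) c)).symm
  let iso : S.map G ≅ T := ShortComplex.isoMk (e k) (e (k + 1)) (e (k + 2)) (comm k) (comm (k + 1))
  exact ⟨((G.mapIso (ShortComplex.homologyMapIso
      ((aug F g).isoSc' ((k + 1 : ℕ) : ℤ) ((k + 2 : ℕ) : ℤ) ((k + 3 : ℕ) : ℤ) (by simp; omega) (by simp; omega)))) ≪≫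
    (S.mapHomologyIso G).symm ≪≫ ShortComplex.homologyMapIso iso ≪≫
    ShortComplex.homologyMapIso
      ((Ab.natCx F.presheaf (cv g)).isoSc' k (k + 1) (k + 2) (by simp) (by simp)).symm).addCommGroupIsoToAddEquiv⟩

/-- Čech cohomology of a family of basic opens is the Koszul cohomology of the global sections. -/
theorem nonempty_cechH_equiv [CompactSpace X] [X.IsSeparated] [Coh.IsQCoh F] (k : ℕ) :
    Nonempty (↑(CohB1.cechH (cv g) F (k + 1)) ≃+ CohIII.koszulHLim g (gammaMod F) (k + 2)) := by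
  obtain ⟨e⟩ := nonempty_koszulHLim_equiv_aug F g (k + 2)
  obtain ⟨e'⟩ := nonempty_aug_equiv_natCx F g k
  exact ⟨(((HomologicalComplex.homologyMapIso (Ab.cechIso F.presheaf (cv g)) (k + 1)).addCommGroupIsoToAddEquiv.symm).trans
    e'.symm).trans e.toAddEquiv.symm⟩

end Groth.Agent.KCLib
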