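import Groth.Prelude.Def_ega3
import Mathlib.Algebra.Homology.ShortComplex.ModuleCat
import Mathlib.Algebra.Homology.HomotopyCategory.MappingCone
import Mathlib.Algebra.Homology.HomotopyCategory.Shift
import Mathlib.Algebra.Homology.QuasiIso
import Mathlib.Algebra.Homology.ConcreteCategory

/-!
# Elements of mapping cones and of homology, for complexes of modules
-/

set_option autoImplicit false
universe u

open CategoryTheory CategoryTheory.Limits CochainComplex CochainComplex.HomComplex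

namespace Groth.Agent.KCLib

variable {A : Type u} [CommRing A]

/-- Cochain complexes of modules. -/
abbrev KCx (A : Type u) [CommRing A] := CochainComplex (ModuleCat.{u} A) ℤ

theorem comm_apply {K L : KCx A} (φ : K ⟶ L) (i j : ℤ) (x : K.X i) :
    L.d i j (φ.f i x) = φ.f j (K.d i j x) :=
  ConcreteCategory.congr_hom (φ.comm i j) x

theorem d_d_apply (K : KCx A) (i j k : ℤ) (x : K.X i) : K.d j k (K.d i j x) = 0 :=
  ConcreteCategory.congr_hom (K.d_comp_d i j k) x

section Cone

variable {K L : KCx A} (φ : K ⟶ L) {n m k : ℤ}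

/-- An element of a cone from its two components. -/
noncomputable def cmk (h : n + 1 = m) (x : K.X m) (y : L.X n) : (mappingCone φ).X n :=
  (mappingCone.inl φ).v m n (by omega) x + (mappingCone.inr φ).f n y

/-- The first component. -/
noncomputable def cfst (h : n + 1 = m) (z : (mappingCone φ).X n) : K.X m :=
  (mappingCone.fst φ).1.v n m h z

/-- The second component. -/
noncomputable def csnd (z : (mappingCone φ).X n) : L.X n :=
  (mappingCone.snd φ).v n n (add_zero n) z

@[simp] theorem cfst_cmk (h : n + 1 = m) (x : K.X m) (y : L.X n) : cfst φ h (cmk φ h x y) = x := by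
  simp only [cfst, cmk, map_add]
  rw [show (mappingCone.fst φ).1.v n m h ((mappingCone.inl φ).v m n (by omega) x) = x from
      ConcreteCategory.congr_hom (mappingCone.inl_v_fst_v φ m n h) x,
    show (mappingCone.fst φ).1.v n m h ((mappingCone.inr φ).f n y) = 0 from
      ConcreteCategory.congr_hom (mappingCone.inr_f_fst_v φ n m h) y, add_zero]

@[simp] theorem csnd_cmk (h : n + 1 = m) (x : K.X m) (y : L.X n) : csnd φ (cmk φ h x y) = y := by
  simp only [csnd, cmk, map_add]
  rw [show (mappingCone.snd φ).v n n (add_zero n) ((mappingCone.inl φ).v m n (by omega) x) = 0 from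
      ConcreteCategory.congr_hom (mappingCone.inl_v_snd_v φ m n (by omega)) x,
    show (mappingCone.snd φ).v n n (add_zero n) ((mappingCone.inr φ).f n y) = y from
      ConcreteCategory.congr_hom (mappingCone.inr_f_snd_v φ n) y, zero_add]

theorem cmk_eta (h : n + 1 = m) (z : (mappingCone φ).X n) :
    cmk φ h (cfst φ h z) (csnd φ z) = z :=
  ConcreteCategory.congr_hom (mappingCone.id_X φ n m h) z

theorem cone_ext' (h : n + 1 = m) {z z' : (mappingCone φ).X n} (h₁ : cfst φ h z = cfst φ h z')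
    (h₂ : csnd φ z = csnd φ z') : z = z' := by
  rw [← cmk_eta φ h z, h₁, h₂, cmk_eta]

theorem cfst_d (h : n + 1 = m) (h' : m + 1 = k) (z : (mappingCone φ).X n) :
    cfst φ h' ((mappingCone φ).d n m z) = - K.d m k (cfst φ h z) :=
  ConcreteCategory.congr_hom (mappingCone.d_fst_v φ n m k h h') z

theorem csnd_d (h : n + 1 = m) (z : (mappingCone φ).X n) :
    csnd φ ((mappingCone φ).d n m z) = φ.f m (cfst φ h z) + L.d n m (csnd φ z) :=
  ConcreteCategory.congr_hom (mappingCone.d_snd_v φ n m h) z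

variable {K' L' : KCx A} (φ' : K' ⟶ L') (a : K ⟶ K') (b : L ⟶ L') (hab : φ ≫ b = a ≫ φ')

theorem cfst_map (h : n + 1 = m) (z : (mappingCone φ).X n) :
    cfst φ' h ((mappingCone.map φ φ' a b hab).f n z) = a.f m (cfst φ h z) := by
  refine ConcreteCategory.congr_hom (?_ : (mappingCone.map φ φ' a b hab).f n ≫
    (mappingCone.fst φ').1.v n m h = (mappingCone.fst φ).1.v n m h ≫ a.f m) z
  simp [mappingCone.ext_from_iff _ m n h, mappingCone.map]

theorem csnd_map (z : (mappingCone φ).X n) :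
    csnd φ' ((mappingCone.map φ φ' a b hab).f n z) = b.f n (csnd φ z) := by
  refine ConcreteCategory.congr_hom (?_ : (mappingCone.map φ φ' a b hab).f n ≫
    (mappingCone.snd φ').v n n (add_zero n) = (mappingCone.snd φ).v n n (add_zero n) ≫ b.f n) z
  simp [mappingCone.ext_from_iff _ (n + 1) n rfl, mappingCone.map]

end Cone

section Homology

variable {K L : KCx A}

/-- The class of a cocycle. -/
theorem exists_hom_class (K : KCx A) (i j k : ℤ) (hij : i + 1 = j) (hjk : j + 1 = k) :
    ∃ π : LinearMap.ker (K.d j k).hom →ₗ[A] K.homology j, Function.Surjective π ∧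
      (∀ z, π z = 0 ↔ ∃ w, K.d i j w = z.1) ∧
      ∀ z, ∃ c : K.cycles j, K.iCycles j c = z.1 ∧ K.homologyπ j c = π z := by
  have hk : (ComplexShape.up ℤ).next j = k := by simp [← hjk]
  have hi : (ComplexShape.up ℤ).prev j = i := by simp [← hij]
  subst hk hi
  let S := K.sc j
  let π : LinearMap.ker S.g.hom →ₗ[A] S.homology :=
    (S.moduleCatCyclesIso.inv ≫ S.homologyπ).hom
  have hs : Function.Surjective π := by
    have : Epi (S.moduleCatCyclesIso.inv ≫ S.homologyπ) := inferInstance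
    exact (ModuleCat.epi_iff_surjective _).1 this
  refine ⟨π, hs, fun z => ?_, fun z => ⟨S.moduleCatCyclesIso.inv z, ?_, rfl⟩⟩
  · have e : π z = S.moduleCatHomologyIso.inv (S.moduleCatLeftHomologyData.π z) :=
      ConcreteCategory.congr_hom S.moduleCatCyclesIso_inv_π z
    refine ⟨fun h₀ => ?_, fun ⟨w, hw⟩ => e.trans ?_⟩
    · have h := e.symm.trans h₀
      have h' : S.moduleCatLeftHomologyData.π z = 0 := by
        have h1 := congrArg S.moduleCatHomologyIso.hom h
        replace h1 := h1.trans (map_zero _)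
        exact (ConcreteCategory.congr_hom S.moduleCatHomologyIso.inv_hom_id _).symm.trans h1
      obtain ⟨w, hw⟩ := (Submodule.Quotient.mk_eq_zero _).1 h'
      exact ⟨w, congrArg Subtype.val hw⟩
    · rw [show S.moduleCatLeftHomologyData.π z = 0 from
        (Submodule.Quotient.mk_eq_zero _).2 ⟨w, Subtype.ext hw⟩]
      exact map_zero _
  · exact ConcreteCategory.congr_hom S.moduleCatCyclesIso_inv_iCycles z

/-- A chain map is bijective on homology when it is so on classes of cocycles. -/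
theorem isIso_homologyMap_of (φ : K ⟶ L) (i j k : ℤ) (hij : i + 1 = j) (hjk : j + 1 = k)
    (hsurj : ∀ z, L.d j k z = 0 → ∃ x, K.d j k x = 0 ∧ ∃ w, φ.f j x = z + L.d i j w)
    (hinj : ∀ x, K.d j k x = 0 → ∀ w, φ.f j x = L.d i j w → ∃ v, K.d i j v = x) :
    IsIso (HomologicalComplex.homologyMap φ j) := by
  obtain ⟨π, hπs, hπ0, hπc⟩ := exists_hom_class K i j k hij hjk
  obtain ⟨ρ, hρs, hρ0, hρc⟩ := exists_hom_class L i j k hij hjk
  have nat : ∀ (z : LinearMap.ker (K.d j k).hom), HomologicalComplex.homologyMap φ j (π z) =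
      ρ ⟨φ.f j z.1, LinearMap.mem_ker.2 ((comm_apply φ j k z.1).trans
        (by rw [show K.d j k z.1 = 0 from z.2, map_zero]))⟩ := by
    intro z
    obtain ⟨c, hc, hcπ⟩ := hπc z
    obtain ⟨c', hc', hc'π⟩ := hρc ⟨φ.f j z.1, LinearMap.mem_ker.2 ((comm_apply φ j k z.1).trans
        (by rw [show K.d j k z.1 = 0 from z.2, map_zero]))⟩
    rw [← hcπ, ← hc'π]
    refine (ConcreteCategory.congr_hom (HomologicalComplex.homologyπ_naturality φ j) c).trans ?_
    refine congrArg (L.homologyπ j) ((ModuleCat.mono_iff_injective (L.iCycles j)).1 inferInstance ?_)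
    refine (ConcreteCategory.congr_hom (HomologicalComplex.cyclesMap_i φ j) c).trans ?_
    exact (congrArg (φ.f j) hc).trans hc'.symm
  rw [ConcreteCategory.isIso_iff_bijective]
  refine ⟨(injective_iff_map_eq_zero _).2 fun a ha => ?_, fun b => ?_⟩
  · obtain ⟨z, rfl⟩ := hπs a
    rw [nat, hρ0] at ha
    obtain ⟨w, hw⟩ := ha
    exact (hπ0 z).2 (hinj z.1 z.2 w hw.symm)
  · obtain ⟨z, rfl⟩ := hρs b
    obtain ⟨x, hx, w, hw⟩ := hsurj z.1 z.2
    refine ⟨π ⟨x, hx⟩, ?_⟩
    rw [nat, ← sub_eq_zero, ← map_sub, hρ0]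
    exact ⟨w, by simp [hw]⟩

/-- The cocycle conditions in the other direction. -/
theorem quasiIso_spec (φ : K ⟶ L) [QuasiIso φ] (i j k : ℤ) (hij : i + 1 = j) (hjk : j + 1 = k) :
    (∀ z, L.d j k z = 0 → ∃ x, K.d j k x = 0 ∧ ∃ w, φ.f j x = z + L.d i j w) ∧
    (∀ x, K.d j k x = 0 → ∀ w, φ.f j x = L.d i j w → ∃ v, K.d i j v = x) := by
  obtain ⟨π, hπs, hπ0, hπc⟩ := exists_hom_class K i j k hij hjk
  obtain ⟨ρ, hρs, hρ0, hρc⟩ := exists_hom_class L i j k hij hjk
  have hbij := (ConcreteCategory.isIso_iff_bijective (HomologicalComplex.homologyMap φ j)).1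
    inferInstance
  have hker : ∀ z : LinearMap.ker (K.d j k).hom, L.d j k (φ.f j z.1) = 0 := fun z =>
    (comm_apply φ j k z.1).trans (by rw [show K.d j k z.1 = 0 from z.2, map_zero])
  have nat : ∀ (z : LinearMap.ker (K.d j k).hom), HomologicalComplex.homologyMap φ j (π z) =
      ρ ⟨φ.f j z.1, hker z⟩ := by
    intro z
    obtain ⟨c, hc, hcπ⟩ := hπc z
    obtain ⟨c', hc', hc'π⟩ := hρc ⟨φ.f j z.1, hker z⟩
    rw [← hcπ, ← hc'π]
    refine (ConcreteCategory.congr_hom (HomologicalComplex.homologyπ_naturality φ j) c).trans ?_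
    refine congrArg (L.homologyπ j) ((ModuleCat.mono_iff_injective (L.iCycles j)).1 inferInstance ?_)
    refine (ConcreteCategory.congr_hom (HomologicalComplex.cyclesMap_i φ j) c).trans ?_
    exact (congrArg (φ.f j) hc).trans hc'.symm
  refine ⟨fun z hz => ?_, fun x hx w hw => ?_⟩
  · obtain ⟨a, ha⟩ := hbij.2 (ρ ⟨z, hz⟩)
    obtain ⟨x, rfl⟩ := hπs a
    rw [nat, ← sub_eq_zero, ← map_sub, hρ0] at ha
    obtain ⟨w, hw⟩ := ha
    exact ⟨x.1, x.2, w, by rw [hw]; simp⟩
  · obtain ⟨v, hv⟩ := (hπ0 ⟨x, hx⟩).1 (hbij.1 (by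
      rw [nat, map_zero]; exact (hρ0 _).2 ⟨w, hw.symm⟩))
    exact ⟨v, hv⟩

end Homology

end Groth.Agent.KCLib
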