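import Groth.Agent.KCLib.ConeElem
import Groth.Prelude.Def_DerCA
import Mathlib.Algebra.Homology.HomotopyCategory.ShiftSequence

/-!
# Quasi-isomorphisms between cones and localisations of complexes of modules
-/

set_option autoImplicit false
universe u

open CategoryTheory CategoryTheory.Limits CochainComplex CochainComplex.HomComplex

namespace Groth.Agent.KCLib

variable {A : Type u} [CommRing A]

theorem quasiIso_of_elem {K L : KCx A} (φ : K ⟶ L)
    (hsurj : ∀ i j k : ℤ, i + 1 = j → j + 1 = k → ∀ z, L.d j k z = 0 →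
      ∃ x, K.d j k x = 0 ∧ ∃ w, φ.f j x = z + L.d i j w)
    (hinj : ∀ i j k : ℤ, i + 1 = j → j + 1 = k → ∀ x, K.d j k x = 0 → ∀ w, φ.f j x = L.d i j w →
      ∃ v, K.d i j v = x) : QuasiIso φ := by
  refine ⟨fun j => ?_⟩
  rw [quasiIsoAt_iff_isIso_homologyMap]
  exact isIso_homologyMap_of φ (j - 1) j (j + 1) (by omega) rfl (hsurj _ _ _ (by omega) rfl)
    (hinj _ _ _ (by omega) rfl)

/-- Zigzags of quasi-isomorphisms. -/
def Zig : KCx A → KCx A → Prop :=
  Relation.EqvGen fun K L => ∃ φ : K ⟶ L, QuasiIso φ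

theorem Zig.of {K L : KCx A} (φ : K ⟶ L) [h : QuasiIso φ] : Zig K L :=
  Relation.EqvGen.rel _ _ ⟨φ, h⟩

theorem Zig.of_iso {K L : KCx A} (e : K ≅ L) : Zig K L :=
  Zig.of e.hom

theorem Zig.symm' {K L : KCx A} (h : Zig K L) : Zig L K := Relation.EqvGen.symm _ _ h

theorem Zig.trans' {K L M : KCx A} (h : Zig K L) (h' : Zig L M) : Zig K M :=
  Relation.EqvGen.trans _ _ _ h h'

theorem Zig.homology {K L : KCx A} (h : Zig K L) (n : ℤ) :
    Nonempty (K.homology n ≅ L.homology n) := by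
  induction h with
  | rel K L h =>
    obtain ⟨φ, hφ⟩ := h
    exact ⟨asIso (HomologicalComplex.homologyMap φ n)⟩
  | refl K => exact ⟨Iso.refl _⟩
  | symm K L _ ih => exact ⟨ih.some.symm⟩
  | trans K L M _ _ ih ih' => exact ⟨ih.some.trans ih'.some⟩

section Loc

variable (S : Submonoid A)

/-- The fraction `x / s` in a localised complex. -/
noncomputable def lfrac {K : KCx A} {n : ℤ} (x : K.X n) (s : S) :
    ((DerCA.locCx S).obj K).X n :=
  LocalizedModule.mk x s

theorem lfrac_surj {K : KCx A} {n : ℤ} (y : ((DerCA.locCx S).obj K).X n) :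
    ∃ (x : K.X n) (s : S), lfrac S x s = y :=
  LocalizedModule.induction_on (fun x s => ⟨x, s, rfl⟩) y

theorem lfrac_eq_zero {K : KCx A} {n : ℤ} (x : K.X n) (s : S) :
    lfrac S x s = 0 ↔ ∃ t : S, (t : A) • x = 0 := by
  show LocalizedModule.mk x s = 0 ↔ _
  rw [← LocalizedModule.zero_mk (1 : S), LocalizedModule.mk_eq]
  constructor
  · rintro ⟨t, ht⟩
    exact ⟨t, by simpa [Submonoid.smul_def] using ht⟩
  · rintro ⟨t, ht⟩
    exact ⟨t, by simpa [Submonoid.smul_def] using ht⟩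

theorem lfrac_map {K L : KCx A} (φ : K ⟶ L) {n : ℤ} (x : K.X n) (s : S) :
    ((DerCA.locCx S).map φ).f n (lfrac S x s) = lfrac S (φ.f n x) s := by
  show IsLocalizedModule.map S (LocalizedModule.mkLinearMap S _) (LocalizedModule.mkLinearMap S _)
    (φ.f n).hom (LocalizedModule.mk x s) = LocalizedModule.mk (φ.f n x) s
  rw [IsLocalizedModule.mk_eq_mk', IsLocalizedModule.mk_eq_mk']
  exact IsLocalizedModule.map_mk' S _ _ _ x s

theorem lfrac_d {K : KCx A} {n m : ℤ} (x : K.X n) (s : S) :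
    ((DerCA.locCx S).obj K).d n m (lfrac S x s) = lfrac S (K.d n m x) s := by
  show IsLocalizedModule.map S (LocalizedModule.mkLinearMap S _) (LocalizedModule.mkLinearMap S _)
    (K.d n m).hom (LocalizedModule.mk x s) = LocalizedModule.mk (K.d n m x) s
  rw [IsLocalizedModule.mk_eq_mk', IsLocalizedModule.mk_eq_mk']
  exact IsLocalizedModule.map_mk' S _ _ _ x s

theorem lfrac_add {K : KCx A} {n : ℤ} (x x' : K.X n) (s s' : S) :
    lfrac S x s + lfrac S x' s' = lfrac S ((s' : A) • x + (s : A) • x') (s * s') := by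
  show LocalizedModule.mk x s + LocalizedModule.mk x' s' = _
  rw [LocalizedModule.mk_add_mk]
  rfl

theorem lfrac_cancel {K : KCx A} {n : ℤ} (x : K.X n) (s t : S) :
    lfrac S ((t : A) • x) (s * t) = lfrac S x s :=
  LocalizedModule.mk_cancel_common_right s t x

theorem locCxUnit_apply {K : KCx A} {n : ℤ} (x : K.X n) :
    (DerCA.locCxUnit S K).f n x = lfrac S x 1 := rfl

/-- All cohomology is torsion for `S`. -/
def STors (K : KCx A) : Prop :=
  ∀ i j k : ℤ, i + 1 = j → j + 1 = k → ∀ z, K.d j k z = 0 →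
    ∃ (t : S) (w : K.X i), K.d i j w = (t : A) • z

theorem STors.of_quasiIso {K L : KCx A} (φ : K ⟶ L) [QuasiIso φ] :
    STors S K ↔ STors S L := by
  constructor
  · intro h i j k hij hjk z hz
    obtain ⟨x, hx, w, hw⟩ := (quasiIso_spec φ i j k hij hjk).1 z hz
    obtain ⟨t, v, hv⟩ := h i j k hij hjk x hx
    refine ⟨t, φ.f i v - (t : A) • w, ?_⟩
    rw [map_sub, comm_apply, hv, map_smul, hw, map_smul, smul_add, add_sub_cancel_right]
  · intro h i j k hij hjk x hx
    obtain ⟨t, w, hw⟩ := h i j k hij hjk (φ.f j x) (by rw [comm_apply, hx, map_zero])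
    obtain ⟨v, hv⟩ := (quasiIso_spec φ i j k hij hjk).2 ((t : A) • x) (by rw [map_smul, hx, smul_zero])
      w (by rw [map_smul, hw])
    exact ⟨t, v, hv⟩

theorem locCx_exact_of_sTors {K : KCx A} (h : STors S K) (i j k : ℤ) (hij : i + 1 = j) (hjk : j + 1 = k)
    (z : ((DerCA.locCx S).obj K).X j) (hz : ((DerCA.locCx S).obj K).d j k z = 0) :
    ∃ w, ((DerCA.locCx S).obj K).d i j w = z := by
  obtain ⟨x, s, rfl⟩ := lfrac_surj S z
  rw [lfrac_d, lfrac_eq_zero] at hz
  obtain ⟨t, ht⟩ := hz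
  obtain ⟨t', w, hw⟩ := h i j k hij hjk ((t : A) • x) (by rw [map_smul, ht])
  refine ⟨lfrac S w (s * (t' * t)), ?_⟩
  rw [lfrac_d, hw, smul_smul]
  exact lfrac_cancel S x s (t' * t)

theorem quasiIso_locCx_map {K L : KCx A} (φ : K ⟶ L) [QuasiIso φ] :
    QuasiIso ((DerCA.locCx S).map φ) := by
  refine quasiIso_of_elem _ (fun i j k hij hjk z hz => ?_) fun i j k hij hjk x hx w hw => ?_
  · obtain ⟨x, s, rfl⟩ := lfrac_surj S z
    rw [lfrac_d, lfrac_eq_zero] at hz
    obtain ⟨t, ht⟩ := hz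
    obtain ⟨a, ha, w, hw⟩ := (quasiIso_spec φ i j k hij hjk).1 ((t : A) • x) (by rw [map_smul, ht])
    refine ⟨lfrac S a (s * t), ?_, lfrac S w (s * t), ?_⟩
    · rw [lfrac_d, ha]
      exact (lfrac_eq_zero S _ _).2 ⟨1, smul_zero _⟩
    · rw [lfrac_map, lfrac_d, hw, ← lfrac_cancel S x s t, lfrac_add]
      rw [← lfrac_cancel S _ (s * t) (s * t), smul_add]
  · obtain ⟨a, s, rfl⟩ := lfrac_surj S x
    obtain ⟨b, r, rfl⟩ := lfrac_surj S w
    rw [lfrac_d, lfrac_eq_zero] at hx
    obtain ⟨t, ht⟩ := hx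
    rw [lfrac_map, lfrac_d] at hw
    obtain ⟨c, hc⟩ := LocalizedModule.mk_eq.1 hw
    simp only [Submonoid.smul_def, smul_smul] at hc
    obtain ⟨v, hv⟩ := (quasiIso_spec φ i j k hij hjk).2 (((c : A) * r * t) • a)
      (by rw [map_smul, mul_smul, ht, smul_zero]) (((c : A) * s * t) • b) (by
        rw [map_smul, map_smul]
        have := congrArg (fun y => (t : A) • y) hc
        simp only [smul_smul] at this
        rw [show (c : A) * r * t = t * (c * r) by ring, show (c : A) * s * t = t * (c * s) by ring]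
        exact this)
    refine ⟨lfrac S v (s * (c * r * t)), ?_⟩
    rw [lfrac_d, hv]
    exact lfrac_cancel S a s (c * r * t)

/-- The cone of the localisation map. -/
noncomputable abbrev coneLoc (f : A) (K : KCx A) : KCx A :=
  mappingCone (DerCA.locCxUnit (Submonoid.powers f) K)

theorem locCxUnit_naturality {K L : KCx A} (φ : K ⟶ L) :
    DerCA.locCxUnit S K ≫ (DerCA.locCx S).map φ = φ ≫ DerCA.locCxUnit S L := by
  ext n x
  exact (lfrac_map S φ x 1)

end Loc

theorem quasiIso_coneMap {K L K' L' : KCx A} (φ : K ⟶ L) (φ' : K' ⟶ L') (a : K ⟶ K') (b : L ⟶ L')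
    (hab : φ ≫ b = a ≫ φ') [QuasiIso a] [QuasiIso b] : QuasiIso (mappingCone.map φ φ' a b hab) := by
  have hc : ∀ n (x : K.X n), b.f n (φ.f n x) = φ'.f n (a.f n x) := fun n x =>
    ConcreteCategory.congr_hom (congrArg (fun ψ => ψ.f n) hab) x
  refine quasiIso_of_elem _ (fun i j k hij hjk z hz => ?_) fun i j k hij hjk z hz w hw => ?_
  · have h1 := congrArg (cfst φ' (rfl : k + 1 = k + 1)) hz
    rw [cfst_d φ' hjk rfl] at h1
    have h1' : K'.d k (k + 1) (cfst φ' hjk z) = 0 := by simpa [cfst] using h1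
    obtain ⟨x, hx, u, hu⟩ := (quasiIso_spec a j k (k + 1) hjk rfl).1 _ h1'
    have h2 := congrArg (csnd φ') hz
    rw [csnd_d φ' hjk] at h2
    have h2' : φ'.f k (cfst φ' hjk z) + L'.d j k (csnd φ' z) = 0 := by simpa [csnd] using h2
    have h3 : b.f k (φ.f k x) = L'.d j k (φ'.f j u - csnd φ' z) := by
      rw [hc, hu, map_add, map_sub, comm_apply φ' j k, eq_neg_of_add_eq_zero_left h2']
      abel
    obtain ⟨v, hv⟩ := (quasiIso_spec b j k (k + 1) hjk rfl).2 (φ.f k x)
      (by rw [comm_apply, hx, map_zero]) _ h3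
    have hyc : L'.d j k (csnd φ' z - φ'.f j u + b.f j v) = 0 := by
      rw [map_add, comm_apply b j k, hv, h3, map_sub, map_sub]
      abel
    obtain ⟨y, hy, w₂, hw₂⟩ := (quasiIso_spec b i j k hij hjk).1 _ hyc
    refine ⟨cmk φ hjk x (y - v), ?_, cmk φ' hij (-u) w₂, ?_⟩
    · refine cone_ext' φ (rfl : k + 1 = k + 1) ?_ ?_
      · rw [cfst_d φ hjk rfl, cfst_cmk, hx, neg_zero]
        exact (map_zero _).symm
      · rw [csnd_d φ hjk, cfst_cmk, csnd_cmk, map_sub, hy, hv, zero_sub, add_neg_cancel]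
        exact (map_zero _).symm
    · refine cone_ext' φ' hjk ?_ ?_
      · rw [cfst_map, cfst_cmk]
        simp only [cfst, map_add]
        rw [show (mappingCone.fst φ').1.v j k hjk ((mappingCone φ').d i j (cmk φ' hij (-u) w₂)) =
          _ from cfst_d φ' hij hjk _, cfst_cmk, map_neg, neg_neg]
        exact hu
      · rw [csnd_map, csnd_cmk, map_sub, hw₂]
        simp only [csnd, map_add]
        rw [show (mappingCone.snd φ').v j j (add_zero j) ((mappingCone φ').d i j (cmk φ' hij (-u) w₂)) =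
          _ from csnd_d φ' hij _, cfst_cmk, csnd_cmk, map_neg]
        abel
  · have h1 := congrArg (cfst φ (rfl : k + 1 = k + 1)) hz
    rw [cfst_d φ hjk rfl] at h1
    have h1' : K.d k (k + 1) (cfst φ hjk z) = 0 := by simpa [cfst] using h1
    have h2 := congrArg (csnd φ) hz
    rw [csnd_d φ hjk] at h2
    have h2' : φ.f k (cfst φ hjk z) + L.d j k (csnd φ z) = 0 := by simpa [csnd] using h2
    have e1 := congrArg (cfst φ' hjk) hw
    rw [cfst_map, cfst_d φ' hij hjk, ← map_neg] at e1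
    obtain ⟨v, hv⟩ := (quasiIso_spec a j k (k + 1) hjk rfl).2 _ h1' _ e1
    have e2 := congrArg (csnd φ') hw
    rw [csnd_map, csnd_d φ' hij] at e2
    have hyc : L.d j k (csnd φ z + φ.f j v) = 0 := by
      rw [map_add, comm_apply φ j k, hv, add_comm, h2']
    have hu : K'.d j k (cfst φ' hij w + a.f j v) = 0 := by
      rw [map_add, comm_apply a j k, hv, e1, map_neg, add_neg_cancel]
    obtain ⟨x, hx, r, hr⟩ := (quasiIso_spec a i j k hij hjk).1 _ hu
    have e3 : b.f j (csnd φ z + φ.f j v - φ.f j x) = L'.d i j (csnd φ' w - φ'.f i r) := by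
      rw [map_sub, map_add, hc, hc, hr, map_add, map_add, e2, map_sub, comm_apply φ' i j]
      abel
    obtain ⟨y, hy⟩ := (quasiIso_spec b i j k hij hjk).2 _
      (by rw [map_sub, hyc, comm_apply φ j k, hx, map_zero, sub_zero]) _ e3
    refine ⟨cmk φ hij (x - v) y, cone_ext' φ hjk ?_ ?_⟩
    · rw [cfst_d φ hij hjk, cfst_cmk, map_sub, hx, hv, zero_sub, neg_neg]
    · rw [csnd_d φ hij, cfst_cmk, csnd_cmk, map_sub, hy]
      abel

theorem Zig.coneLoc {K L : KCx A} (f : A) (h : Zig K L) : Zig (coneLoc f K) (coneLoc f L) := by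
  induction h with
  | rel K L h =>
    obtain ⟨φ, hφ⟩ := h
    have := quasiIso_locCx_map (Submonoid.powers f) φ
    have := quasiIso_coneMap _ _ φ _ (locCxUnit_naturality (Submonoid.powers f) φ)
    exact Zig.of (mappingCone.map _ _ φ _ (locCxUnit_naturality (Submonoid.powers f) φ))
  | refl K => exact Relation.EqvGen.refl _
  | symm K L _ ih => exact ih.symm'
  | trans K L M _ _ ih ih' => exact ih.trans' ih'

/-- A map of cones of bijective-on-kernels surjections. -/
theorem quasiIso_coneMap_of_surjective {K L K' L' : KCx A} (φ : K ⟶ L) (φ' : K' ⟶ L') (a : K ⟶ K')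
    (b : L ⟶ L') (hab : φ ≫ b = a ≫ φ') (ha : ∀ n, Function.Surjective (a.f n))
    (hb : ∀ n, Function.Surjective (b.f n))
    (hinj : ∀ n (x : K.X n), a.f n x = 0 → φ.f n x = 0 → x = 0)
    (hsurj : ∀ n (y : L.X n), b.f n y = 0 → ∃ x, a.f n x = 0 ∧ φ.f n x = y) :
    QuasiIso (mappingCone.map φ φ' a b hab) := by
  have key : ∀ {n m l : ℤ} (hn : n + 1 = m) (hm : m + 1 = l) (z : (mappingCone φ).X m),
      (mappingCone φ).d m l z = 0 → a.f l (cfst φ hm z) = 0 → b.f m (csnd φ z) = 0 →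
      ∃ v, (mappingCone φ).d n m v = z ∧ (mappingCone.map φ φ' a b hab).f n v =
        (mappingCone.map φ φ' a b hab).f n (cmk φ hn (cfst φ hn v) 0) ∧
        a.f m (cfst φ hn v) = 0 ∧ csnd φ v = 0 := by
    intro n m l hn hm z hz h1 h2
    obtain ⟨c, hc, hc'⟩ := hsurj m _ h2
    refine ⟨cmk φ hn c 0, cone_ext' φ hm ?_ ?_, by rw [cfst_cmk], by rw [cfst_cmk]; exact hc,
      csnd_cmk _ _ _ _⟩
    · rw [cfst_d φ hn hm, cfst_cmk]
      refine eq_of_sub_eq_zero (hinj l _ ?_ ?_)
      · rw [map_sub, map_neg, ← comm_apply, hc, map_zero, h1, neg_zero, sub_zero]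
      · have e := congrArg (csnd φ) hz
        rw [csnd_d φ hm, show csnd φ (0 : (mappingCone φ).X l) = 0 from map_zero _] at e
        rw [map_sub, map_neg, ← comm_apply φ m l, hc']
        refine (congrArg (fun t => -L.d m l (csnd φ z) - t) (eq_neg_of_add_eq_zero_left e)).trans ?_
        abel
    · rw [csnd_d φ hn, cfst_cmk, csnd_cmk, map_zero, add_zero, hc']
  refine quasiIso_of_elem _ (fun i j k hij hjk z hz => ?_) fun i j k hij hjk z hz w hw => ?_
  · obtain ⟨x, hx⟩ := ha k (cfst φ' hjk z)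
    obtain ⟨y, hy⟩ := hb j (csnd φ' z)
    let z₁ := cmk φ hjk x y
    have hz₁ : (mappingCone.map φ φ' a b hab).f j z₁ = z :=
      cone_ext' φ' hjk (by rw [cfst_map, cfst_cmk, hx]) (by rw [csnd_map, csnd_cmk, hy])
    have hd : (mappingCone.map φ φ' a b hab).f k ((mappingCone φ).d j k z₁) = 0 := by
      rw [← comm_apply, hz₁, hz]
    obtain ⟨v, hv, -, hv1, hv2⟩ := key hjk (rfl : k + 1 = k + 1) _ (d_d_apply _ _ _ _ _)
      (by rw [← cfst_map φ φ' a b hab, hd]; exact map_zero _)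
      (by rw [← csnd_map φ φ' a b hab, hd]; exact map_zero _)
    refine ⟨z₁ - v, by rw [map_sub, hv, sub_self], 0, ?_⟩
    rw [map_zero, add_zero, map_sub, hz₁,
      show (mappingCone.map φ φ' a b hab).f j v = 0 from
        cone_ext' φ' hjk ((cfst_map _ _ _ _ _ _ _).trans (hv1.trans (map_zero _).symm))
          ((csnd_map _ _ _ _ _ _).trans ((congrArg (b.f j) hv2).trans ((map_zero _).trans (map_zero _).symm))),
      sub_zero]
  · obtain ⟨x, hx⟩ := ha j (cfst φ' hij w)
    obtain ⟨y, hy⟩ := hb i (csnd φ' w)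
    let w₁ := cmk φ hij x y
    have hw₁ : (mappingCone.map φ φ' a b hab).f i w₁ = w :=
      cone_ext' φ' hij (by rw [cfst_map, cfst_cmk, hx]) (by rw [csnd_map, csnd_cmk, hy])
    have hd : (mappingCone.map φ φ' a b hab).f j (z - (mappingCone φ).d i j w₁) = 0 := by
      rw [map_sub, hw, ← comm_apply, hw₁, sub_self]
    obtain ⟨v, hv, -⟩ := key hij hjk (z - (mappingCone φ).d i j w₁)
      (by rw [map_sub, hz, d_d_apply, sub_zero])
      (by rw [← cfst_map φ φ' a b hab, hd]; exact map_zero _)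
      (by rw [← csnd_map φ φ' a b hab, hd]; exact map_zero _)
    exact ⟨v + w₁, by rw [map_add, hv, sub_add_cancel]⟩

/-- The projection from a cone to the shifted source. -/
noncomputable def coneProj {K L : KCx A} (φ : K ⟶ L) : mappingCone φ ⟶ K⟦(1 : ℤ)⟧ where
  f n := (mappingCone.fst φ).1.v n (n + 1) rfl
  comm' n m (h : n + 1 = m) := by
    subst h
    ext z
    show (1 : ℤ).negOnePow • K.d (n + 1) (n + 1 + 1) (cfst φ rfl z) =
      cfst φ (rfl : n + 1 + 1 = n + 1 + 1) ((mappingCone φ).d n (n + 1) z)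
    rw [cfst_d φ rfl rfl, Int.negOnePow_one, Units.neg_smul, one_smul]

theorem quasiIso_coneProj {K L : KCx A} (φ : K ⟶ L)
    (hL : ∀ i j k : ℤ, i + 1 = j → j + 1 = k → ∀ z, L.d j k z = 0 → ∃ w, L.d i j w = z) :
    QuasiIso (coneProj φ) := by
  refine quasiIso_of_elem _ (fun i j k hij hjk z hz => ?_) fun i j k hij hjk z hz w hw => ?_
  · subst hjk
    revert z
    show ∀ z : K.X (j + 1), _
    intro z hz
    have hz' : K.d (j + 1) (j + 1 + 1) z = 0 := by
      have : (1 : ℤ).negOnePow • K.d (j + 1) (j + 1 + 1) z = 0 := hz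
      simpa [Int.negOnePow_one] using this
    obtain ⟨v, hv⟩ := hL j (j + 1) (j + 1 + 1) rfl rfl (φ.f (j + 1) z) (by rw [comm_apply, hz', map_zero])
    refine ⟨cmk φ rfl z (-v), cone_ext' φ (rfl : j + 1 + 1 = j + 1 + 1) ?_ ?_, 0, ?_⟩
    · rw [cfst_d φ rfl rfl, cfst_cmk, hz', neg_zero]
      exact (map_zero _).symm
    · rw [csnd_d φ rfl, cfst_cmk, csnd_cmk, map_neg, hv, add_neg_cancel]
      exact (map_zero _).symm
    · rw [map_zero]
      exact (cfst_cmk φ rfl z (-v)).trans (add_zero z).symm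
  · subst hij hjk
    revert w
    show ∀ w : K.X (i + 1), _
    intro w hw
    have hw' : cfst φ (rfl : i + 1 + 1 = i + 1 + 1) z = - K.d (i + 1) (i + 1 + 1) w := by
      refine Eq.trans (hw : _) ?_
      show (1 : ℤ).negOnePow • K.d (i + 1) (i + 1 + 1) w = _
      rw [Int.negOnePow_one, Units.neg_smul, one_smul]
    have h2 := congrArg (csnd φ) hz
    rw [csnd_d φ rfl, hw', show csnd φ (0 : (mappingCone φ).X (i + 1 + 1)) = 0 from map_zero _, map_neg,
      ← comm_apply φ (i + 1) (i + 1 + 1)] at h2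
    obtain ⟨v, hv⟩ := hL i (i + 1) (i + 1 + 1) rfl rfl (csnd φ z - φ.f (i + 1) w) (by
      rw [map_sub, eq_neg_of_add_eq_zero_right h2, neg_neg, sub_self])
    refine ⟨cmk φ rfl w v, cone_ext' φ rfl ?_ ?_⟩
    · rw [cfst_d φ rfl rfl, cfst_cmk, hw']
    · rw [csnd_d φ rfl, cfst_cmk, csnd_cmk, hv]
      abel

theorem sTors_shift (S : Submonoid A) {K : KCx A} (h : STors S K) (r : ℤ) : STors S (K⟦r⟧) := by
  intro i j k hij hjk z hz
  have hz' : K.d (j + r) (k + r) z = 0 := by
    have : r.negOnePow • K.d (j + r) (k + r) z = 0 := hz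
    exact smul_eq_zero_iff_eq r.negOnePow |>.1 this
  obtain ⟨t, w, hw⟩ := h (i + r) (j + r) (k + r) (by omega) (by omega) z hz'
  refine ⟨t, r.negOnePow • w, ?_⟩
  show r.negOnePow • K.d (i + r) (j + r) (r.negOnePow • w) = (t : A) • z
  rw [Units.smul_def, Units.smul_def, map_zsmul, smul_smul, ← Units.val_mul, Int.units_mul_self,
    Units.val_one, one_smul, hw]
  rfl

/-- The cone of the localisation map is the shift when the cohomology is torsion. -/
theorem zig_coneLoc_shift (f : A) (K : KCx A) (h : STors (Submonoid.powers f) K) :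
    Zig (coneLoc f K) (K⟦(1 : ℤ)⟧) :=
  have := quasiIso_coneProj (DerCA.locCxUnit (Submonoid.powers f) K)
    (locCx_exact_of_sTors (Submonoid.powers f) h)
  Zig.of (coneProj _)

end Groth.Agent.KCLib
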