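import Groth.Agent.KCLib.Compare
import Groth.Agent.QCoh.Ab.LerayOpen
import Groth.Agent.LCZLib.Seq
import Groth.Agent.QCoh.Bound
import Groth.Prelude.Def_LocCohZ

/-!
# Koszul cohomology of powers is cohomology with supports
-/

set_option autoImplicit false
set_option backward.isDefEq.respectTransparency false
universe u

open CategoryTheory CategoryTheory.Limits AlgebraicGeometry TopologicalSpace Opposite CategoryTheory.Abelian
open Groth.Agent.QCoh

namespace Groth.Agent.KCLib

attribute [local instance] secMod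

variable {X : Scheme.{u}} (F : X.Modules) (g : List Γ(X, ⊤)) {U : X.Opens}

/-- Sections over an open as degree-zero classes. -/
noncomputable def secU (G : CohTop.Ab X.toPresheafedSpace.carrier) (V : X.Opens) :
    G.obj.obj (op V) ≃+ CohTop.HU G 0 V :=
  ((Ext.addEquiv₀.trans (SiteBase.secEquiv (Opens.grothendieckTopology X.toPresheafedSpace.carrier) V G)).symm :
    G.obj.obj (op V) ≃+ Ext (CohCx.freeSheaf (Opens.grothendieckTopology X.toPresheafedSpace.carrier) V) G 0)

theorem res_secU (G : CohTop.Ab X.toPresheafedSpace.carrier) {V W : X.Opens} (h : W ≤ V)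
    (s : G.obj.obj (op V)) :
    CohTop.res G 0 h (secU G V s) = secU G W (G.obj.map (homOfLE h).op s) := by
  obtain ⟨φ, rfl⟩ : ∃ φ, SiteBase.secEquiv (Opens.grothendieckTopology X.toPresheafedSpace.carrier) V G φ = s :=
    (SiteBase.secEquiv _ V G).surjective s
  show (Ext.mk₀ (CohCx.freeSheafMap _ (homOfLE h))).comp
      (Ext.addEquiv₀.symm ((SiteBase.secEquiv _ V G).symm _)) (zero_add 0) =
    Ext.addEquiv₀.symm ((SiteBase.secEquiv _ W G).symm _)
  rw [AddEquiv.symm_apply_apply, ← SiteBase.secEquiv_freeSheafMap, AddEquiv.symm_apply_apply]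
  exact Ext.mk₀_comp_mk₀ _ _

theorem cv_le (hU : ⨆ i, cv g i = U) (i : ULift.{u} (Fin g.length)) : cv g i ≤ U :=
  hU ▸ le_iSup _ i

/-- Cochains of length one as cochains of the Čech complex. -/
noncomputable def ofSec (hle : ∀ i, cv g i ≤ U) (s : Γ(F, U)) : coch F g 1 :=
  ⟨(Ab.ofV (cv g) hle F.presheaf s : Ab.natCochains F.presheaf (cv g) 1).1,
    (Ab.ofV (cv g) hle F.presheaf s : Ab.natCochains F.presheaf (cv g) 1).2⟩

theorem coch_zero_eq (c : coch F g 0) (W : X.Opens) :
    c.1 (fun k => k.elim0) ⟨W, fun k => k.elim0⟩ =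
      F.presheaf.map (homOfLE le_top).op (c.1 (fun k => k.elim0) ⟨⊤, fun k => k.elim0⟩) :=
  (c.2 _ ⊤ W (fun k => k.elim0) (fun k => k.elim0) (homOfLE le_top)).symm

theorem dLin_zero_val (c : coch F g 0) (σ : Fin 1 → ULift.{u} (Fin g.length))
    (W : {W : X.Opens // Ab.Le (cv g) σ W}) :
    (dLin F g 0 c).1 σ W = F.presheaf.map (homOfLE le_top).op (c.1 (fun k => k.elim0) ⟨⊤, fun k => k.elim0⟩) := by
  show Ab.d c.1 σ W = _
  rw [Ab.d, Fin.sum_univ_one, Fin.val_zero, pow_zero, one_smul, coch_congr F g c (funext fun k => k.elim0)]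
  exact coch_zero_eq F g c W.1

/-- A section on the whole space as a cochain of length zero. -/
noncomputable def ofTopSec (t : Γ(F, ⊤)) : coch F g 0 :=
  ⟨fun σ W => F.presheaf.map (homOfLE le_top).op t, fun σ W W' h h' i => Ab.map_map'' F.presheaf _ _ _ t⟩

theorem nonempty_one_equiv (hU : ⨆ i, cv g i = U)
    (hs : Function.Surjective (LocCohZ.delta (X := X.toPresheafedSpace.carrier) (Coh.toAb F) 0 (le_top : U ≤ ⊤))) :
    Nonempty ((aug F g).homology ((1 : ℕ) : ℤ) ≃+ LocCohZ.HZM X F 1 U) := by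
  classical
  have hle := cv_le g hU
  obtain ⟨π, hπs, hπ0, -⟩ := exists_hom_class (aug F g) ((0 : ℕ) : ℤ) ((1 : ℕ) : ℤ) ((2 : ℕ) : ℤ) rfl rfl
  let K := Ab.natCx F.presheaf (cv g)
  have hz : ∀ s, dLin F g 1 (ofSec F g hle s) = 0 := fun s => Subtype.ext <| by
    have e := ConcreteCategory.congr_hom (Ab.ofV_d (cv g) hle F.presheaf) s
    rw [Ab.natCx_d] at e
    exact congrArg Subtype.val e
  let S : Γ(F, U) →+ LinearMap.ker ((aug F g).d ((1 : ℕ) : ℤ) ((2 : ℕ) : ℤ)).hom :=
    AddMonoidHom.mk' (fun s => ⟨ofSec F g hle s, LinearMap.mem_ker.2 ((aug_d_nat F g 1 _).trans (hz s))⟩)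
      fun s t => Subtype.ext <| Subtype.ext <| congrArg Subtype.val
        (map_add (Ab.ofV (cv g) hle F.presheaf).hom s t)
  have hSs : Function.Surjective S := by
    intro z
    let c : coch F g 1 := z.1
    have hd : Ab.d (P := F.presheaf) (U := cv g) c.1 = 0 :=
      congrArg Subtype.val ((aug_d_nat F g 1 c).symm.trans (LinearMap.mem_ker.1 z.2))
    have hbij := Ab.vToH0_bijective (X := X.toPresheafedSpace.carrier) (cv g) (Coh.toAb F) hle hU.ge
    haveI := CochainComplex.isIso_homologyπ₀ K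
    let c' : Ab.natCochains F.presheaf (cv g) 1 := ⟨c.1, c.2⟩
    let k : AddCommGrpCat.of (ULift.{u} ℤ) ⟶ K.X 0 := AddCommGrpCat.ofHom (AddMonoidHom.mk'
      (fun n => (n.down • c' : Ab.natCochains F.presheaf (cv g) 1)) fun a b => add_smul a.down b.down c')
    have hk : k ≫ K.d 0 1 = 0 := by
      rw [Ab.natCx_d]
      refine AddCommGrpCat.ext fun n => ?_
      refine ((map_zsmul (Ab.natD F.presheaf (cv g) 0).hom n.down c')).trans ?_
      rw [show (Ab.natD F.presheaf (cv g) 0).hom c' = 0 from Subtype.ext hd, smul_zero]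
      rfl
    let x : K.cycles 0 := K.liftCycles k 1 (by simp) hk ⟨1⟩
    obtain ⟨s, hs'⟩ := hbij.2 (K.homologyπ 0 x)
    refine ⟨s, Subtype.ext (Subtype.ext ?_)⟩
    have e := congrArg (K.iCycles 0) ((ConcreteCategory.bijective_of_isIso (K.homologyπ 0)).1 hs')
    have e1 : K.iCycles 0 (K.liftCycles (Ab.ofV (cv g) hle F.presheaf) 1 (by simp)
        (Ab.ofV_d (cv g) hle F.presheaf) s) = Ab.ofV (cv g) hle F.presheaf s :=
      ConcreteCategory.congr_hom (K.liftCycles_i _ _ _ _) s
    exact congrArg Subtype.val ((e1.symm.trans e).trans ((ConcreteCategory.congr_hom (K.liftCycles_i k 1 (by simp) hk) ⟨1⟩).trans (one_smul ℤ c')))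
  refine Ab.nonempty_addEquiv_of_surjective (π.toAddMonoidHom.comp S)
    ((LocCohZ.delta (X := X.toPresheafedSpace.carrier) (Coh.toAb F) 0 (le_top : U ≤ ⊤)).comp
      (secU (Coh.toAb F) U).toAddMonoidHom) (hπs.comp hSs) (hs.comp (secU (Coh.toAb F) U).surjective)
    fun s => ?_
  have key : ∀ t : Γ(F, ⊤), dLin F g 0 (ofTopSec F g t) = ofSec F g hle s ↔
      F.presheaf.map (homOfLE (le_top : U ≤ ⊤)).op t = s := by
    intro t
    refine ⟨fun h => ?_, fun h => Subtype.ext <| funext₂ fun σ W => ?_⟩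
    · refine TopCat.Sheaf.eq_of_locally_eq' (X := X.toPresheafedSpace.carrier) (Coh.toAb F) (cv g) U
        (fun i => homOfLE (hle i)) hU.ge _ _ fun i => ?_
      refine (Ab.map_map'' F.presheaf _ _ (homOfLE le_top) t).trans ?_
      refine Eq.trans ?_ (congrFun (congrFun (congrArg Subtype.val h) fun _ => i) ⟨cv g i, fun _ => le_rfl⟩)
      refine Eq.trans ?_ (dLin_zero_val F g (ofTopSec F g t) (fun _ => i) ⟨cv g i, fun _ => le_rfl⟩).symm
      show _ = F.presheaf.map (homOfLE le_top).op (F.presheaf.map (homOfLE le_top).op t)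
      exact (Ab.map_map'' F.presheaf _ _ (homOfLE le_top) t).symm
    · rw [dLin_zero_val]
      show F.presheaf.map (homOfLE le_top).op (F.presheaf.map (homOfLE le_top).op t) =
        F.presheaf.map (homOfLE ((W.2 0).trans (hle (σ 0)))).op s
      rw [← h]
      exact (Ab.map_map'' F.presheaf _ _ (homOfLE le_top) t).trans (Ab.map_map'' F.presheaf _ _ _ t).symm
  refine Iff.trans (hπ0 (S s)) ⟨?_, fun h => ?_⟩
  · rintro ⟨w, hw⟩
    have hw' : dLin F g 0 w = ofSec F g hle s := (aug_d_nat F g 0 w).symm.trans hw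
    have : w = ofTopSec F g (w.1 (fun k => k.elim0) ⟨⊤, fun k => k.elim0⟩) :=
      Subtype.ext <| funext₂ fun σ W => by
        rw [show W = ⟨W.1, W.2⟩ from rfl]
        obtain rfl : σ = fun k => k.elim0 := funext fun k => k.elim0
        exact coch_zero_eq F g w W.1
    rw [this] at hw'
    show LocCohZ.delta (X := X.toPresheafedSpace.carrier) (Coh.toAb F) 0 le_top (secU (Coh.toAb F) U s) = 0
    rw [← (key _).1 hw']
    exact (congrArg _ (res_secU (Coh.toAb F) le_top _).symm).trans (LCZLib.delta_res _ _ _ _)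
  · obtain ⟨z, hz'⟩ := LCZLib.exact_delta (X := X.toPresheafedSpace.carrier) (Coh.toAb F) le_top 0 _ h
    obtain ⟨t, rfl⟩ := (secU (Coh.toAb F) ⊤).surjective z
    refine ⟨ofTopSec F g t, (aug_d_nat F g 0 _).trans ((key t).2 ?_)⟩
    exact (secU (Coh.toAb F) U).injective ((res_secU (Coh.toAb F) le_top t).symm.trans hz')

theorem nonempty_zero_equiv (hU : ⨆ i, cv g i = U) :
    Nonempty ((aug F g).homology ((0 : ℕ) : ℤ) ≃+ LocCohZ.HZM X F 0 U) := by
  classical
  have hle := cv_le g hU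
  obtain ⟨π, hπs, hπ0, -⟩ := exists_hom_class (aug F g) (Int.negSucc 0) ((0 : ℕ) : ℤ) ((1 : ℕ) : ℤ) rfl rfl
  have hπi : Function.Injective π := (injective_iff_map_eq_zero π).2 fun z hz => by
    obtain ⟨w, hw⟩ := (hπ0 z).1 hz
    haveI : Subsingleton ((aug F g).X (Int.negSucc 0)) := inferInstanceAs (Subsingleton PUnit.{u + 1})
    rw [Subsingleton.elim w 0, map_zero] at hw
    exact Subtype.ext hw.symm
  let Z := LocCohZ.sectZ (X := X.toPresheafedSpace.carrier) (Coh.toAb F) (le_top : U ≤ ⊤)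
  let T : Z →+ LinearMap.ker ((aug F g).d ((0 : ℕ) : ℤ) ((1 : ℕ) : ℤ)).hom :=
    AddMonoidHom.mk' (fun t => ⟨ofTopSec F g t.1, LinearMap.mem_ker.2 ((aug_d_nat F g 0 _).trans
      (Subtype.ext <| funext₂ fun σ W => by
        rw [dLin_zero_val]
        show F.presheaf.map (homOfLE le_top).op (F.presheaf.map (homOfLE le_top).op t.1) = 0
        rw [Ab.map_map'' F.presheaf _ _ (homOfLE le_top),
          ← Ab.map_map'' F.presheaf (homOfLE (le_top : U ≤ ⊤)) (homOfLE ((W.2 0).trans (hle (σ 0))))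
            (homOfLE le_top), show F.presheaf.map (homOfLE (le_top : U ≤ ⊤)).op t.1 = 0 from t.2, map_zero]))⟩)
      fun s t => Subtype.ext <| Subtype.ext <| funext₂ fun σ W => map_add _ _ _
  have hT : Function.Bijective T := by
    refine ⟨(injective_iff_map_eq_zero T).2 fun t ht => Subtype.ext ?_, fun z => ?_⟩
    · have := congrFun (congrFun (congrArg Subtype.val (congrArg Subtype.val ht)) fun k => k.elim0) ⟨⊤, fun k => k.elim0⟩
      exact (Ab.map_self F.presheaf _ t.1).symm.trans this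
    · let c : coch F g 0 := z.1
      have hd : dLin F g 0 c = 0 := (aug_d_nat F g 0 c).symm.trans (LinearMap.mem_ker.1 z.2)
      refine ⟨⟨c.1 (fun k => k.elim0) ⟨⊤, fun k => k.elim0⟩, ?_⟩, Subtype.ext <| Subtype.ext <| funext₂ fun σ W => ?_⟩
      · show F.presheaf.map (homOfLE (le_top : U ≤ ⊤)).op (c.1 (fun k => k.elim0) ⟨⊤, fun k => k.elim0⟩) = 0
        refine TopCat.Sheaf.eq_of_locally_eq' (X := X.toPresheafedSpace.carrier) (Coh.toAb F) (cv g) U
          (fun i => homOfLE (hle i)) hU.ge _ _ fun i => ?_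
        refine Eq.trans ?_ (map_zero (F.presheaf.map (homOfLE (hle i)).op).hom).symm
        refine (Ab.map_map'' F.presheaf _ _ (homOfLE le_top) _).trans ?_
        refine (dLin_zero_val F g c (fun _ => i) ⟨cv g i, fun _ => le_rfl⟩).symm.trans ?_
        rw [hd]
        rfl
      · obtain rfl : σ = fun k => k.elim0 := funext fun k => k.elim0
        exact (coch_zero_eq F g c W.1).symm
  exact ⟨(AddEquiv.ofBijective π.toAddMonoidHom ⟨hπi, hπs⟩).symm.trans
    ((AddEquiv.ofBijective T hT).symm.trans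
      (LocCohZ.sect0Equiv (X := X.toPresheafedSpace.carrier) (Coh.toAb F) (le_top : U ≤ ⊤)).symm)⟩

/-- The augmented Čech complex computes cohomology with supports. -/
theorem nonempty_aug_equiv_HZM [IsAffine X] (hF : Coh.IsQCoh F) (hU : ⨆ i, cv g i = U) (p : ℕ) :
    Nonempty ((aug F g).homology (p : ℤ) ≃+ LocCohZ.HZM X F p U) := by
  have hv : ∀ k : ℕ, Subsingleton (CohTop.HU (X := X.toPresheafedSpace.carrier) (Coh.toAb F) (k + 1) ⊤) := fun k =>
    subsingleton_HU_of_isAffineOpen hF (isAffineOpen_top X) k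
  have hs : ∀ k : ℕ, Function.Surjective (LocCohZ.delta (X := X.toPresheafedSpace.carrier) (Coh.toAb F) k (le_top : U ≤ ⊤)) := by
    intro k y
    haveI := hv k
    exact LCZLib.exact_toHU (X := X.toPresheafedSpace.carrier) (Coh.toAb F) le_top k y (Subsingleton.elim _ _)
  match p with
  | 0 => exact nonempty_zero_equiv F g hU
  | 1 => exact nonempty_one_equiv F g hU (hs 0)
  | k + 2 =>
    have hinj : Function.Injective
        (LocCohZ.delta (X := X.toPresheafedSpace.carrier) (Coh.toAb F) (k + 1) (le_top : U ≤ ⊤)) :=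
      (injective_iff_map_eq_zero _).2 fun w hw => by
        haveI := hv k
        obtain ⟨z, rfl⟩ := LCZLib.exact_delta (X := X.toPresheafedSpace.carrier) (Coh.toAb F) le_top (k + 1) w hw
        rw [Subsingleton.elim z 0, map_zero]
    have haff : ∀ {n : ℕ} (σ : Fin (n + 1) → ULift.{u} (Fin g.length)), IsAffineOpen (⨅ a, cv g (σ a)) :=
      fun σ => isAffineOpen_iInf_tuple (U := cv g)
        (fun s hs' => by
          refine Finset.Nonempty.cons_induction (fun a => ?_) (fun a t ha ht ih => ?_) hs'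
          · simpa using (isAffineOpen_top X).basicOpen _
          · rw [Finset.cons_eq_insert, Finset.iInf_insert, inf_comm, ← Scheme.basicOpen_res _ _ (homOfLE le_top).op]
            exact ih.basicOpen _) σ
    obtain ⟨e1⟩ := nonempty_aug_equiv_natCx F g k
    obtain ⟨e2⟩ := Ab.natCx_HU_equiv (X := X.toPresheafedSpace.carrier) (cv_le g hU) hU.ge
      (stdCovers_sectionClass haff) (abSheaf F) (stdCovers_acyclic hF) (k + 1)
    exact ⟨e1.trans (e2.trans (AddEquiv.ofBijective _ ⟨hinj, hs (k + 1)⟩))⟩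

end Groth.Agent.KCLib
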